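import Mathlib.CategoryTheory.Abelian.GrothendieckCategory.Basic
import Mathlib.CategoryTheory.Abelian.Exact
import Mathlib.Algebra.Homology.ShortComplex.ShortExact
import Mathlib.CategoryTheory.Abelian.Basic

/-!
Classes of objects closed under subobjects, quotients, extensions and sums.
-/

set_option autoImplicit false
set_option linter.style.haveILetI false

universe u v

open CategoryTheory CategoryTheory.Limits

namespace Groth.Agent.GRLib

variable {C : Type v} [Category.{u} C] [Abelian C]

/-- A class closed under subobjects, quotients, extensions and sums. -/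
structure IsLoc [HasCoproducts.{u} C] (P : C → Prop) : Prop where
  iff : ∀ S : ShortComplex C, S.ShortExact → (P S.X₂ ↔ P S.X₁ ∧ P S.X₃)
  sum : ∀ (ι : Type u) (M : ι → C), (∀ i, P (M i)) → P (∐ M)

variable [HasCoproducts.{u} C] {P : C → Prop}

lemma IsLoc.of_mono (h : IsLoc P) {A B : C} (f : A ⟶ B) [Mono f] (hB : P B) : P A :=
  ((h.iff (ShortComplex.mk f (cokernel.π f) (cokernel.condition f))
    { exact := ShortComplex.exact_cokernel f }).mp hB).1

lemma IsLoc.of_epi (h : IsLoc P) {A B : C} (g : A ⟶ B) [Epi g] (hA : P A) : P B :=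
  ((h.iff (ShortComplex.mk (kernel.ι g) g (kernel.condition g))
    { exact := ShortComplex.exact_kernel g }).mp hA).2

lemma IsLoc.of_iso (h : IsLoc P) {A B : C} (e : A ≅ B) (hA : P A) : P B := h.of_epi e.hom hA

lemma IsLoc.of_isZero (h : IsLoc P) {Z : C} (hZ : IsZero Z) : P Z := by
  let M : PEmpty.{u + 1} → C := fun i => i.elim
  have h0 : IsZero (∐ M) := by
    rw [IsZero.iff_id_eq_zero]
    exact Sigma.hom_ext _ _ fun i => i.elim
  exact h.of_iso (h0.iso hZ) (h.sum _ M fun i => i.elim)

/-- Every object has a subobject in the class with no nonzero subobject of the quotient in the class. -/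
theorem exists_max_sub [IsGrothendieckAbelian.{u} C] (h : IsLoc P) (E : C) :
    ∃ (T : C) (t : T ⟶ E), Mono t ∧ P T ∧
      ∀ (N : C) (n : N ⟶ cokernel t), Mono n → P N → IsZero N := by
  let I : Type u := {S : Shrink.{u} (Subobject E) // P (((equivShrink (Subobject E)).symm S : Subobject E) : C)}
  let σ : (∐ fun S : I => (((equivShrink (Subobject E)).symm S.1 : Subobject E) : C)) ⟶ E :=
    Sigma.desc fun S => ((equivShrink (Subobject E)).symm S.1).arrow
  refine ⟨Abelian.image σ, Abelian.image.ι σ, inferInstance,
    h.of_epi (Abelian.factorThruImage σ) (h.sum _ _ fun S => S.2), ?_⟩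
  intro N n _ hN
  let t := Abelian.image.ι σ
  let π := cokernel.π t
  let K := pullback n π
  let l : Abelian.image σ ⟶ K := pullback.lift 0 t (by rw [zero_comp, cokernel.condition])
  haveI : Mono l := mono_of_mono_fac (pullback.lift_snd _ _ _ : l ≫ pullback.snd n π = t)
  have hl : l ≫ pullback.fst n π = 0 := pullback.lift_fst _ _ _
  have hex : (ShortComplex.mk l (pullback.fst n π) hl).Exact := by
    refine ShortComplex.exact_of_f_is_kernel _ (KernelFork.IsLimit.ofι' _ _ fun {W} g hg => ?_)
    have hg' : (g ≫ pullback.snd n π) ≫ π = 0 := by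
      rw [Category.assoc, ← pullback.condition, ← Category.assoc, hg, zero_comp]
    refine ⟨Abelian.monoLift t (g ≫ pullback.snd n π) hg', ?_⟩
    apply pullback.hom_ext
    · rw [Category.assoc, hl, comp_zero, hg]
    · rw [Category.assoc, pullback.lift_snd, Abelian.monoLift_comp]
  have hK : P K := (h.iff _ { exact := hex }).mpr
    ⟨h.of_epi (Abelian.factorThruImage σ) (h.sum _ _ fun S => S.2), hN⟩
  let k : K ⟶ E := pullback.snd n π
  let S : I := ⟨equivShrink _ (Subobject.mk k), by
    rw [Equiv.symm_apply_apply]
    exact h.of_iso (Subobject.underlyingIso k).symm hK⟩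
  have hk : k ≫ π = 0 := by
    let e : K ⟶ (((equivShrink (Subobject E)).symm S.1 : Subobject E) : C) :=
      (Subobject.underlyingIso k).inv ≫ eqToHom (congrArg (fun X : Subobject E => (X : C))
        (Equiv.symm_apply_apply (equivShrink (Subobject E)) (Subobject.mk k)).symm)
    have he : e ≫ ((equivShrink (Subobject E)).symm S.1).arrow = k := by
      rw [Category.assoc, Subobject.arrow_congr _ _ (Equiv.symm_apply_apply (equivShrink (Subobject E)) (Subobject.mk k)).symm]
      exact Subobject.underlyingIso_arrow k
    have hfac : k = (e ≫ Sigma.ι (fun S : I => (((equivShrink (Subobject E)).symm S.1 : Subobject E) : C)) S ≫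
        Abelian.factorThruImage σ) ≫ t := by
      simp only [t, Category.assoc, Abelian.image.fac, σ, Sigma.ι_desc]
      simpa only [Category.assoc] using he.symm
    rw [hfac, Category.assoc, cokernel.condition, comp_zero]
  have : pullback.fst n π ≫ n = 0 := by rw [pullback.condition]; exact hk
  exact IsZero.of_mono_eq_zero n ((cancel_epi (pullback.fst n π)).mp (this.trans comp_zero.symm))

end Groth.Agent.GRLib
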