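import Groth.Agent.GRLib.Alg
import Groth.Agent.GRLib.Serre
import Groth.Agent.QCGen.Basic
import Groth.Agent.QC.Support
import Groth.Agent.QC.Local
import Groth.Agent.QC.Localisation
import Groth.Agent.LocFree.Props
import Groth.Agent.ClSubLib.Support
import Mathlib.AlgebraicGeometry.Modules.Tilde

/-!
Every quasi-coherent module supported in the support of a finitely presented one is built from it.
-/

set_option autoImplicit false
set_option linter.style.haveILetI false
set_option backward.isDefEq.respectTransparency false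
set_option backward.isDefEq.respectTransparency.types false
set_option maxHeartbeats 400000

universe u

open CategoryTheory CategoryTheory.Limits AlgebraicGeometry TopologicalSpace Opposite
open Groth.Agent.QC (res resO)

namespace Groth.Agent.GRLib

variable {X : Scheme.{u}}

lemma mem_support_restrict_iff {Y : Scheme.{u}} (j : Y ⟶ X) [IsOpenImmersion j] (M : X.Modules) (y : Y) :
    y ∈ CohB1.support (M.restrict j) ↔ j.base y ∈ CohB1.support M := by
  have e := ((Scheme.Modules.restrictStalkNatIso j y).app M).addCommGroupIsoToAddEquiv.toEquiv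
  exact not_congr e.subsingleton_congr

lemma isZero_of_support_eq_empty (M : X.Modules) (h : CohB1.support M = ∅) : IsZero M := by
  rw [IsZero.iff_id_eq_zero]
  apply Scheme.Modules.hom_ext
  intro W
  ext s
  change s = 0
  refine QC.section_eq_of_locally fun x hx => ?_
  obtain ⟨V, hV, hxV, e⟩ := (QC.notMem_support_iff x).mp (by rw [h]; exact Set.notMem_empty x) W hx s
  exact ⟨V, hV, hxV, e.trans (map_zero _).symm⟩

lemma support_eq_empty_of_isZero (M : X.Modules) (h : IsZero M) : CohB1.support M = ∅ := by
  refine Set.eq_empty_of_forall_notMem fun x => (ClSubLib.notMem_support_iff_isZero M x).mpr ?_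
  exact (DerSch.stalkFunctor X x).map_isZero h

instance : (QCohCat.isQCoh X).ι.PreservesMonomorphisms :=
  preservesMonomorphisms_of_preservesLimitsOfShape _

lemma support_mono {A B : QCohCat.QCoh X} (f : A ⟶ B) [Mono f] :
    CohB1.support A.obj ⊆ CohB1.support B.obj := by
  have hS : (ShortComplex.mk f (cokernel.π f) (cokernel.condition f)).ShortExact :=
    { exact := ShortComplex.exact_cokernel f }
  have h := ClSubLib.support_shortExact _ (hS.map_of_exact (QCohCat.isQCoh X).ι)
  exact fun x hx => h.ge (Or.inl hx)

lemma support_epi {A B : QCohCat.QCoh X} (f : A ⟶ B) [Epi f] :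
    CohB1.support B.obj ⊆ CohB1.support A.obj := by
  have hS : (ShortComplex.mk (kernel.ι f) f (kernel.condition f)).ShortExact :=
    { exact := ShortComplex.exact_kernel f }
  have h := ClSubLib.support_shortExact _ (hS.map_of_exact (QCohCat.isQCoh X).ι)
  exact fun x hx => h.ge (Or.inr hx)

lemma exists_hom_Spec {R : CommRingCat.{u}} {M N : (Spec R).Modules} (hM : Coh.IsQCoh M)
    (hM' : CohB1.IsFP M) (hN : Coh.IsQCoh N) (hN' : ¬ IsZero N)
    (hsupp : CohB1.support N ⊆ CohB1.support M) : ∃ φ : M ⟶ N, φ ≠ 0 := by
  have hT : IsAffineOpen (⊤ : (Spec R).Opens) := isAffineOpen_top _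
  haveI : M.IsQuasicoherent := hM
  haveI : N.IsQuasicoherent := hN
  haveI := LocFree.finitePresentation_sections_of_isFP hM hM' hT
  haveI : Nontrivial Γ(N, ⊤) := by
    rw [← not_subsingleton_iff_nontrivial]
    intro hs
    refine hN' (IsZero.of_iso ?_ (asIso N.fromTildeΓ).symm)
    have h0 : IsZero ((moduleSpecΓFunctor (R := R)).obj N) :=
      @ModuleCat.isZero_of_subsingleton _ _ _ hs
    exact (tilde.functor R).map_isZero h0
  obtain ⟨g, hg⟩ := exists_hom_ne_zero (A := Γ(Spec R, ⊤)) (M := Γ(M, ⊤)) (N := Γ(N, ⊤)) fun a ha e => by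
    have hD : res N ((Spec R).basicOpen_le a) e = 0 := by
      refine QC.section_eq_of_locally fun x hx => ?_
      have hxM : x ∉ CohB1.support M :=
        (QC.notMem_support_iff_affine hT (show x ∈ (⊤ : (Spec R).Opens) from trivial)).mpr
          fun m => ⟨a, hx, ha m⟩
      obtain ⟨V, hV, hxV, e'⟩ := (QC.notMem_support_iff x).mp (fun h => hxM (hsupp h)) _ hx
        (res N ((Spec R).basicOpen_le a) e)
      exact ⟨V, hV, hxV, e'.trans (map_zero _).symm⟩
    exact (QC.isLoc_of_isQCoh hT (M := N)).exists_pow_smul_eq_zero a e hD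
  let γl : Γ(M, ⊤) →ₗ[R] Γ(N, ⊤) :=
      { toFun := fun x => g x
        map_add' := fun x y => map_add g x y
        map_smul' := fun r x => by rw [← algebraMap_smul Γ(Spec R, ⊤) r x, map_smul, algebraMap_smul]; rfl }
  let γ : (moduleSpecΓFunctor (R := R)).obj M ⟶ (moduleSpecΓFunctor (R := R)).obj N :=
    (ModuleCat.ofHom γl :)
  refine ⟨(asIso M.fromTildeΓ).inv ≫ tilde.map γ ≫ N.fromTildeΓ, fun h => hg ?_⟩
  have h1 : tilde.map γ = 0 := by
    rwa [← cancel_epi (asIso M.fromTildeΓ).inv, ← cancel_mono N.fromTildeΓ, Category.assoc, comp_zero,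
      zero_comp]
  have h2 : γ = 0 := (tilde.functor R).map_injective (h1.trans tilde.map_zero.symm)
  exact LinearMap.ext fun x => ConcreteCategory.congr_hom h2 x

/-- Every module supported in the support of a finitely presented module lies in every localizing class
containing it. -/
theorem mem_of_supp [CompactSpace X] [QuasiSeparatedSpace X] {P : QCohCat.QCoh X → Prop} (hP : IsLoc P)
    (F : QCohCat.QCoh X) (hF : CohB1.IsFP F.obj) (hPF : P F) (E : QCohCat.QCoh X)
    (hE : CohB1.support E.obj ⊆ CohB1.support F.obj) : P E := by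
  classical
  obtain ⟨t, ht⟩ := isCompact_univ.elim_finite_subcover (fun V : X.affineOpens => (V.1 : Set X))
    (fun V => V.1.2) (fun y _ => by
      obtain ⟨V, hV, hyV, -⟩ := exists_isAffineOpen_mem_and_subset (X := X) (x := y) (U := ⊤) trivial
      exact Set.mem_iUnion.mpr ⟨⟨V, hV⟩, hyV⟩)
  suffices key : ∀ (s : Finset X.affineOpens) (E : QCohCat.QCoh X), CohB1.support E.obj ⊆ CohB1.support F.obj →
      (∀ x ∈ CohB1.support E.obj, ∃ V ∈ s, x ∈ V.1) → P E from
    key t E hE fun x _ => by
      obtain ⟨V, hV, hxV⟩ := Set.mem_iUnion₂.mp (ht (Set.mem_univ x))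
      exact ⟨V, hV, hxV⟩
  intro s
  induction s using Finset.induction with
  | empty =>
    intro E _ h
    refine hP.of_isZero (IsZero.of_full_of_faithful_of_isZero (QCohCat.isQCoh X).ι _
      (isZero_of_support_eq_empty _ (Set.eq_empty_of_forall_notMem fun x hx => ?_)))
    obtain ⟨V, hV, -⟩ := h x hx
    exact absurd hV (Finset.notMem_empty V)
  | @insert U s _ ih =>
    intro E hE hcov
    obtain ⟨T, t', ht', hT, hmax⟩ := exists_max_sub hP E
    suffices hz : IsZero (cokernel t') by
      exact (hP.iff (ShortComplex.mk t' (cokernel.π t') (cokernel.condition t'))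
        { exact := ShortComplex.exact_cokernel t' }).mpr ⟨hT, hP.of_isZero hz⟩
    by_contra hz
    have hE' := support_epi (cokernel.π t')
    have hEQ : Coh.IsQCoh (cokernel t').obj := (cokernel t').property
    generalize cokernel t' = E' at hz hE' hmax hEQ
    haveI : IsAffine (U.1 : Scheme.{u}) := U.2
    let j := U.2.fromSpec
    haveI : QuasiCompact j := inferInstance
    let adj := Scheme.Modules.restrictAdjunction j
    let L := Scheme.Modules.restrictFunctor j
    have hq : Coh.IsQCoh (L.obj E'.obj) := QC.isQCoh_restrict j hEQ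
    let G : QCohCat.QCoh X := ⟨(Scheme.Modules.pushforward j).obj (L.obj E'.obj),
      QC.isQCoh_pushforward (hM := hq) j⟩
    let u : E' ⟶ G := ObjectProperty.homMk (adj.unit.app E'.obj)
    haveI huiso : IsIso (L.map u.hom) := by
      change IsIso (L.map (adj.unit.app E'.obj))
      exact IsIso.of_isIso_fac_right (adj.left_triangle_components E'.obj)
    haveI : Mono u := by
      refine Preadditive.mono_of_isZero_kernel u ?_
      refine hmax _ (kernel.ι u) inferInstance (ih _ ((support_mono (kernel.ι u)).trans (hE'.trans hE)) ?_)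
      intro x hx
      obtain ⟨V, hV, hxV⟩ := hcov x (hE' (support_mono (kernel.ι u) hx))
      rcases Finset.mem_insert.mp hV with hVU | hV
      · exfalso
        subst hVU
        haveI : Mono (L.map ((QCohCat.isQCoh X).ι.map (kernel.ι u))) := inferInstance
        have h0 : L.map ((QCohCat.isQCoh X).ι.map (kernel.ι u)) = 0 := by
          rw [← cancel_mono (L.map u.hom), ← Functor.map_comp, zero_comp]
          refine (congrArg L.map ?_).trans (L.map_zero _ _)
          exact congrArg InducedCategory.Hom.hom (kernel.condition u)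
        have := support_eq_empty_of_isZero _ (IsZero.of_mono_eq_zero _ h0)
        obtain ⟨y, hy⟩ : x ∈ Set.range j.base := by rw [IsAffineOpen.range_fromSpec]; exact hxV
        exact Set.eq_empty_iff_forall_notMem.mp this y ((mem_support_restrict_iff j _ y).mpr (hy ▸ hx))
      · exact ⟨V, hV, hxV⟩
    have hLne : ¬ IsZero (L.obj E'.obj) := by
      intro h0
      have : u = 0 := by
        apply ObjectProperty.hom_ext
        exact ((Scheme.Modules.pushforward j).map_isZero h0).eq_of_tgt _ _
      exact hz (IsZero.of_mono_eq_zero u this)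
    obtain ⟨φ, hφ⟩ := exists_hom_Spec (QC.isQCoh_restrict j F.property) (QC.isFP_restrict j hF) hq hLne
      (fun y hy => (mem_support_restrict_iff j _ y).mpr
        (hE (hE' ((mem_support_restrict_iff j _ y).mp hy))))
    let ψ : F ⟶ G := ObjectProperty.homMk (adj.homEquiv _ _ φ)
    let v : E' ⟶ cokernel ψ := u ≫ cokernel.π ψ
    haveI : Mono v := by
      refine Preadditive.mono_of_isZero_kernel v ?_
      have hk : (kernel.ι v ≫ u) ≫ cokernel.π ψ = 0 := by
        rw [Category.assoc]; exact kernel.condition v
      haveI : Mono (kernel.lift (cokernel.π ψ) _ hk) :=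
        mono_of_mono_fac (kernel.lift_ι (cokernel.π ψ) _ hk)
      exact hmax _ (kernel.ι v) inferInstance (hP.of_mono (kernel.lift (cokernel.π ψ) _ hk)
        (hP.of_epi (Abelian.factorThruImage ψ) hPF))
    apply hφ
    have hv : L.map v.hom = L.map u.hom ≫ L.map (cokernel.π ψ).hom := L.map_comp _ _
    haveI : Mono (L.map v.hom) :=
      inferInstanceAs (Mono (L.map ((QCohCat.isQCoh X).ι.map v)))
    haveI : Mono (L.map (cokernel.π ψ).hom) := by
      have : L.map (cokernel.π ψ).hom = inv (L.map u.hom) ≫ L.map v.hom := by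
        rw [hv, IsIso.inv_hom_id_assoc]
      rw [this]; infer_instance
    have hψ : L.map ψ.hom = 0 := by
      rw [← cancel_mono (L.map (cokernel.π ψ).hom), ← Functor.map_comp, zero_comp]
      exact (congrArg L.map (congrArg InducedCategory.Hom.hom (cokernel.condition ψ))).trans (L.map_zero _ _)
    rw [← (adj.homEquiv _ _).symm_apply_apply φ, Adjunction.homEquiv_counit]
    change L.map ψ.hom ≫ _ = 0
    rw [hψ, zero_comp]

end Groth.Agent.GRLib
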