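import Mathlib.RingTheory.LocalRing.Module
import Mathlib.RingTheory.Ideal.AssociatedPrime.Basic
import Mathlib.RingTheory.FiniteType
import Mathlib.RingTheory.Support
import Mathlib.Algebra.Module.FinitePresentation
import Mathlib.RingTheory.Adjoin.FG
import Mathlib.LinearAlgebra.Dual.Lemmas
import Mathlib.RingTheory.LocalProperties.Basic

/-!
A finitely presented module maps nontrivially to every nonzero module supported in its support.
-/

set_option autoImplicit false
set_option linter.style.haveILetI false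

universe u

open scoped TensorProduct

namespace Groth.Agent.GRLib

/-- A finite module not annihilated outside a prime maps nontrivially to the quotient by the prime. -/
lemma exists_map_quotient {R M : Type u} [CommRing R] [AddCommGroup M] [Module R M] [Module.Finite R M]
    (p : Ideal R) [p.IsPrime] (h : ∀ r, (∀ m : M, r • m = 0) → r ∈ p) :
    ∃ g : M →ₗ[R] R ⧸ p, g ≠ 0 := by
  classical
  let k := p.ResidueField
  haveI : Nontrivial (k ⊗[R] M) := by
    apply (Module.mem_support_iff_nontrivial_residueField_tensorProduct ⟨p, inferInstance⟩).mp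
    rw [Module.support_eq_zeroLocus, PrimeSpectrum.mem_zeroLocus]
    exact fun r hr => h r (Module.mem_annihilator.mp hr)
  obtain ⟨v, hv⟩ := exists_ne (0 : k ⊗[R] M)
  obtain ⟨f, hf⟩ : ∃ f : k ⊗[R] M →ₗ[k] k, f v ≠ 0 := by
    by_contra! H
    exact hv ((Module.forall_dual_apply_eq_zero_iff k v).mp H)
  let g : M →ₗ[R] k := (f.restrictScalars R).comp (TensorProduct.mk R k M 1)
  have hg : g ≠ 0 := fun H => hf (by
    have : ∀ w, f w = 0 := fun w => by
      induction w using TensorProduct.induction_on with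
      | zero => exact map_zero f
      | tmul c m =>
        rw [show c ⊗ₜ[R] m = c • ((1 : k) ⊗ₜ[R] m) by rw [TensorProduct.smul_tmul', smul_eq_mul, mul_one],
          map_smul, show f (1 ⊗ₜ m) = 0 from LinearMap.congr_fun H m, smul_zero]
      | add a b ha hb => rw [map_add, ha, hb, add_zero]
    exact this v)
  obtain ⟨s, hs⟩ := Module.Finite.fg_top (R := R) (M := M)
  obtain ⟨d, hd⟩ := IsLocalization.exist_integer_multiples (nonZeroDivisors (R ⧸ p)) s g
  obtain ⟨d', hd'⟩ := Ideal.Quotient.mk_surjective (d : R ⧸ p)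
  let ι : (R ⧸ p) →ₗ[R] k := (IsScalarTower.toAlgHom R (R ⧸ p) k).toLinearMap
  have hι : Function.Injective ι := IsFractionRing.injective (R ⧸ p) k
  have hmem : ∀ m, (d' • g) m ∈ LinearMap.range ι := by
    intro m
    refine Submodule.span_induction (p := fun m _ => (d' • g) m ∈ LinearMap.range ι) (fun x hx => ?_)
      (by simp) (fun a b _ _ ha hb => by rw [map_add]; exact add_mem ha hb)
      (fun c a _ ha => by rw [map_smul]; exact Submodule.smul_mem _ c ha) (hs ▸ Submodule.mem_top : m ∈ _)
    obtain ⟨y, hy⟩ := hd x hx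
    refine ⟨y, ?_⟩
    change algebraMap (R ⧸ p) k y = d' • g x
    rw [hy, ← hd', ← Ideal.Quotient.algebraMap_eq, algebraMap_smul]
  let e := LinearEquiv.ofInjective ι hι
  refine ⟨e.symm.toLinearMap.comp ((d' • g).codRestrict _ hmem), fun H => hg (LinearMap.ext fun m => ?_)⟩
  have h1 : (d' • g) m = 0 :=
    congrArg Subtype.val (e.symm.map_eq_zero_iff.mp (LinearMap.congr_fun H m))
  have h2 : (d : R ⧸ p) • g m = 0 := by
    rwa [← hd', ← Ideal.Quotient.algebraMap_eq, algebraMap_smul]
  rw [Algebra.smul_def] at h2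
  exact (mul_eq_zero.mp h2).resolve_left fun h3 =>
    nonZeroDivisors.ne_zero d.2 (IsFractionRing.injective (R ⧸ p) k (h3.trans (map_zero _).symm))

/-- A finitely presented module maps nontrivially to every nonzero module supported in its support. -/
theorem exists_hom_ne_zero {A : Type u} [CommRing A] {M N : Type u} [AddCommGroup M] [Module A M]
    [Module.FinitePresentation A M] [AddCommGroup N] [Module A N] [Nontrivial N]
    (h : ∀ a : A, (∀ m : M, a • m = 0) → ∀ e : N, ∃ k : ℕ, a ^ k • e = 0) :
    ∃ g : M →ₗ[A] N, g ≠ 0 := by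
  classical
  obtain ⟨n, m, f, r, hf, hex⟩ := Module.FinitePresentation.exists_fin' A M
  let s : Finset A := Finset.univ.image fun p : Fin m × Fin n => r (Pi.single p.1 1) p.2
  let A₀ := Algebra.adjoin ℤ (s : Set A)
  haveI : IsNoetherianRing A₀ := Algebra.FiniteType.isNoetherianRing ℤ A₀
    (h := A₀.fg_iff_finiteType.mp ⟨s, rfl⟩)
  let ρ : Fin m → Fin n → A₀ := fun j i => ⟨r (Pi.single j 1) i,
    Algebra.subset_adjoin (Finset.mem_image_of_mem _ (Finset.mem_univ (j, i)))⟩
  let ι : (Fin n → A₀) →ₗ[A₀] M :=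
    (f.restrictScalars A₀).comp (LinearMap.pi fun i => (Algebra.linearMap A₀ A).comp (LinearMap.proj i))
  have hρ : ∀ j, ι (ρ j) = 0 := fun j => hex.apply_apply_eq_zero (Pi.single j 1)
  let K : Submodule A₀ (Fin n → A₀) := Submodule.span A₀ (Set.range ρ)
  have hι : ∀ i, ι (Pi.single i 1) = f (Pi.single i 1) := fun i => congrArg f (funext fun k => by
    rcases eq_or_ne k i with rfl | hk
    · simp
    · simp [Pi.single_eq_of_ne hk])
  haveI : Module.Finite A₀ ((Fin n → A₀) ⧸ K) := Module.Finite.of_surjective K.mkQ K.mkQ_surjective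
  obtain ⟨p, hp⟩ := associatedPrimes.nonempty A₀ N
  obtain ⟨hpr, e, he⟩ := (isAssociatedPrime_iff.mp hp)
  haveI := hpr
  have hann : ∀ a : A₀, (∀ x : (Fin n → A₀) ⧸ K, a • x = 0) → a ∈ p := by
    intro a ha
    have h0 : ∀ x : M, (a : A) • x = 0 := by
      intro x
      obtain ⟨y, rfl⟩ := hf x
      rw [pi_eq_sum_univ' y, map_sum, Finset.smul_sum]
      refine Finset.sum_eq_zero fun i _ => ?_
      have hK : a • Pi.single i 1 ∈ K := (Submodule.Quotient.mk_eq_zero K).mp
        (ha (Submodule.Quotient.mk (Pi.single i 1)))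
      have hz : ι (a • Pi.single i 1) = 0 := by
        have hle : K ≤ LinearMap.ker ι := Submodule.span_le.mpr (by rintro _ ⟨j, rfl⟩; exact hρ j)
        exact hle hK
      rw [map_smul, hι] at hz
      rw [map_smul, smul_comm, show (a : A) • f (Pi.single i 1) = 0 from hz, smul_zero]
    obtain ⟨k, hk⟩ := h a h0 e
    refine hpr.mem_of_pow_mem k ?_
    rw [he, Submodule.mem_colon_singleton, Submodule.mem_bot]
    exact hk
  obtain ⟨g, hg⟩ := exists_map_quotient p hann
  let j : (A₀ ⧸ p) →ₗ[A₀] N := Submodule.liftQ p (LinearMap.toSpanSingleton A₀ N e) fun a ha => by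
    rw [he, Submodule.mem_colon_singleton, Submodule.mem_bot] at ha
    exact ha
  have hj : Function.Injective j := by
    rw [← LinearMap.ker_eq_bot]
    refine Submodule.ker_liftQ_eq_bot _ _ _ fun a ha => ?_
    rw [he, Submodule.mem_colon_singleton, Submodule.mem_bot]
    exact ha
  let g' : (Fin n → A₀) →ₗ[A₀] N := (j.comp g).comp K.mkQ
  let v : Fin n → N := fun i => g' (Pi.single i 1)
  let G : (Fin n → A) →ₗ[A] N := Fintype.linearCombination A v
  have hG : LinearMap.ker f ≤ LinearMap.ker G := by
    rw [hex.linearMap_ker_eq]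
    rintro _ ⟨c, rfl⟩
    rw [LinearMap.mem_ker, pi_eq_sum_univ' c, map_sum, map_sum]
    refine Finset.sum_eq_zero fun l _ => ?_
    rw [map_smul, map_smul]
    have : G (r (Pi.single l 1)) = g' (ρ l) := by
      conv_rhs => rw [pi_eq_sum_univ' (ρ l), map_sum]
      simp only [G, Fintype.linearCombination_apply, map_smul]
      rfl
    rw [this]
    simp [g', Submodule.Quotient.mk_eq_zero K |>.mpr (Submodule.subset_span ⟨l, rfl⟩)]
  refine ⟨(Submodule.liftQ _ G hG).comp (LinearMap.quotKerEquivOfSurjective f hf).symm.toLinearMap,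
    fun H => hg (Submodule.linearMap_qext _ (LinearMap.ext fun x => hj ?_))⟩
  have hGi : ∀ i, v i = 0 := fun i => by
    have h1 := LinearMap.congr_fun H (f (Pi.single i 1))
    simp only [LinearMap.comp_apply, LinearEquiv.coe_coe,
      LinearMap.quotKerEquivOfSurjective_symm_apply, LinearMap.zero_apply] at h1
    rw [← h1]
    simp [G]
  change g' x = j 0
  rw [map_zero, pi_eq_sum_univ' x, map_sum]
  exact Finset.sum_eq_zero fun i _ => by rw [map_smul, show g' (Pi.single i 1) = 0 from hGi i, smul_zero]

end Groth.Agent.GRLib
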