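import Groth.Agent.GRLib.Scalar

/-!
The isomorphism of schemes induced by an equivalence of quasi-coherent categories.
-/

set_option autoImplicit false
set_option linter.style.haveILetI false
set_option linter.unusedVariables false
set_option linter.unusedSectionVars false
set_option backward.isDefEq.respectTransparency false
set_option backward.isDefEq.respectTransparency.types false
set_option maxHeartbeats 400000

universe u

open CategoryTheory CategoryTheory.Limits AlgebraicGeometry TopologicalSpace Opposite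
open Groth.Agent.QC (res resO)

namespace Groth.Agent.GRLib

variable {X Y : Scheme.{u}}

lemma injOn_iff {U : X.Opens} {A B : QCohCat.QCoh X} (f : A ⟶ B) :
    Off U (kernel f) ↔ ∀ W ≤ U, Function.Injective (f.hom.app W) := by
  let L := (QCohCat.isQCoh X).ι ⋙ Scheme.Modules.restrictFunctor U.ι
  have h1 : Off U (kernel f) ↔ Mono (L.map f) := by
    rw [← isZero_restrict_iff]
    constructor
    · intro h
      exact Preadditive.mono_of_isZero_kernel (L.map f) (h.of_iso (PreservesKernel.iso L f).symm)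
    · intro h
      exact (isZero_kernel_of_mono (L.map f)).of_iso (PreservesKernel.iso L f)
  rw [h1, QC.mono_iff_app_injective]
  constructor
  · intro h W hW a b e
    apply res_injective (image_le' U W le_rfl) (le_image hW)
    apply h (U.ι ⁻¹ᵁ W)
    change f.hom.app _ (res A.obj _ a) = f.hom.app _ (res A.obj _ b)
    rw [← QC.app_res, ← QC.app_res, e]
  · exact fun h W => h (U.ι ''ᵁ W) (U.ι_image_le W)

variable [CompactSpace X] [QuasiSeparatedSpace X] [CompactSpace Y] [QuasiSeparatedSpace Y]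
variable (F : QCohCat.QCoh X ≌ QCohCat.QCoh Y) {U : X.Opens} {V : Y.Opens}

lemma sky_smul (y : Y) {W : Y.Opens} (c : Γ(Y, W)) (s : Γ((sky y).obj, W)) :
    c • s = ((Y.fromSpecResidueField y).app W c * (show Γ(Spec (Y.residueField y), _) from s) :) := rfl

/-- Basic opens correspond. -/
theorem isPair_basicOpen (hU : IsAffineOpen U) [QuasiCompact U.ι] (hP : IsPair F U V) (a : Γ(X, U)) :
    IsPair F (X.basicOpen a) (Y.basicOpen (theta F hP a)) := by
  obtain ⟨V', hV'⟩ := exists_pair F (X.basicOpen a) (hU.basicOpen a).isCompact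
  suffices h : V' = Y.basicOpen (theta F hP a) from h ▸ hV'
  have hle : V' ≤ V := hV'.mono hP (X.basicOpen_le a)
  ext y
  let T := F.inverse.obj (sky y)
  let c := F.counitIso.app (sky y)
  have hc : ∀ W : Y.Opens, Function.Injective (c.hom.hom.app W) := fun W =>
    (bijective_app_of_isIso ((QCohCat.isQCoh Y).ι.map c.hom) W).1
  let i := Y.fromSpecResidueField y
  let b := theta F hP a
  let f := u U T ≫ sigma T a
  have hspec : ∀ (W : Y.Opens) (hW : W ≤ V) (s : Γ((F.functor.obj T).obj, W)),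
      (F.functor.map f).hom.app W s = (F.functor.map (u U T)).hom.app W (resO Y hW b • s) := by
    intro W hW s
    rw [Scheme.Modules.Hom.app_smul]
    exact theta_spec F hP a f (u U T) (fun W hW s => u_sigma_app _ _ hW s) W hW s
  have hdich : y ∈ V → ((y ∈ Y.basicOpen b ∧ IsUnit (i.app V b)) ∨ (y ∉ Y.basicOpen b ∧ i.app V b = 0)) := by
    intro hy
    have htop : i ⁻¹ᵁ V = ⊤ := top_le_iff.mp fun z _ => by
      change i.base z ∈ V
      rw [Y.fromSpecResidueField_apply]; exact hy
    let z : Spec (Y.residueField y) := IsLocalRing.closedPoint (Y.residueField y)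
    let ε : Γ(Spec (Y.residueField y), i ⁻¹ᵁ V) ≅ Y.residueField y :=
      (Spec (Y.residueField y)).presheaf.mapIso (eqToIso htop.symm).op ≪≫ Scheme.ΓSpecIso _
    have hpre : i ⁻¹ᵁ Y.basicOpen b = (Spec (Y.residueField y)).basicOpen (i.app V b) :=
      Scheme.preimage_basicOpen i b
    by_cases h : ε.hom (i.app V b) = 0
    · have h0 : i.app V b = 0 :=
        ε.commRingCatIsoToRingEquiv.injective (h.trans (map_zero ε.commRingCatIsoToRingEquiv).symm)
      refine Or.inr ⟨fun hyb => ?_, h0⟩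
      have : z ∈ i ⁻¹ᵁ Y.basicOpen b := by
        change i.base z ∈ Y.basicOpen b
        rw [Y.fromSpecResidueField_apply]; exact hyb
      rw [hpre, h0, Scheme.basicOpen_zero] at this
      exact this
    · have hu : IsUnit (i.app V b) := (isUnit_map_iff ε.commRingCatIsoToRingEquiv _).mp (IsUnit.mk0 _ h)
      refine Or.inl ⟨?_, hu⟩
      have : z ∈ i ⁻¹ᵁ Y.basicOpen b := by
        rw [hpre, Scheme.basicOpen_of_isUnit _ hu, htop]; trivial
      rw [← Y.fromSpecResidueField_apply y z]
      exact this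
  have happ : ∀ (W : Y.Opens) (hW : W ≤ V),
      i.app W (resO Y hW b) = resO (Spec (Y.residueField y)) (i.preimage_mono hW) (i.app V b) :=
    fun W hW => ConcreteCategory.congr_hom (i.naturality (homOfLE hW).op) b
  constructor
  · intro hy
    by_contra hyb
    obtain ⟨hb, -⟩ | ⟨-, h0⟩ := hdich (hle hy)
    · exact hyb hb
    refine not_off_sky y hy (((hV' T).mp ?_).of_iso c)
    haveI : F.functor.Additive := Functor.additive_of_preserves_binary_products _
    have hz : Off V (Abelian.image (F.functor.map f)) := (off_image_iff _).mpr fun W hW s => by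
      rw [hspec W hW]
      refine (congrArg _ (hc W ?_)).trans (map_zero _)
      rw [Scheme.Modules.Hom.app_smul, sky_smul, map_zero, happ W hW, h0, map_zero, zero_mul]
    have h1 := (off_image_iff f).mp ((hP _).mpr (hz.of_iso (Abelian.PreservesImage.iso F.functor f).symm))
    rw [off_iff]
    intro W hW s
    have hWU : W ≤ U := hW.trans (X.basicOpen_le a)
    have h2 := h1 W hWU s
    rw [app_smul_u T a hWU] at h2
    have h3 := (isoOn_u U T W hWU).1 (h2.trans (map_zero _).symm)
    have hu : IsUnit (resO X hWU a) := by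
      rw [← QC.resO_resO hW (X.basicOpen_le a)]
      exact (RingedSpace.isUnit_res_basicOpen X.toRingedSpace a).map _
    exact hu.smul_eq_zero.mp h3
  · intro hy
    have hyV : y ∈ V := Y.basicOpen_le _ hy
    obtain ⟨-, hu⟩ | ⟨hnb, -⟩ := hdich hyV
    swap
    · exact absurd hy hnb
    by_contra hy'
    refine not_off_sky y hyV (((hP T).mp ?_).of_iso c)
    have hoff : Off (X.basicOpen a) T := (hV' T).mpr ((off_sky y hy').of_iso c.symm)
    have hinjV : Off V (kernel (F.functor.map f)) := (injOn_iff _).mpr fun W hW s s' e => by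
      rw [hspec W hW, hspec W hW] at e
      have e1 := congrArg (c.hom.hom.app W) ((IsoOn.map F hP (isoOn_u U T) W hW).1 e)
      rw [Scheme.Modules.Hom.app_smul, Scheme.Modules.Hom.app_smul, sky_smul, sky_smul] at e1
      apply hc W
      have hu' : IsUnit (i.app W (resO Y hW b)) := by rw [happ W hW]; exact hu.map _
      exact hu'.mul_left_cancel e1
    haveI : F.functor.Additive := Functor.additive_of_preserves_binary_products _
    have hinjU := (injOn_iff f).mp ((hP _).mpr (hinjV.of_iso (PreservesKernel.iso F.functor f).symm)) U le_rfl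
    rw [off_iff_affine hU]
    intro s
    obtain ⟨n, hn⟩ := (QC.isLoc_of_isQCoh hU (hM := T.property)).exists_pow_smul_eq_zero a s
      (off_iff.mp hoff _ le_rfl _)
    clear hoff hinjV
    induction n generalizing s with
    | zero => rwa [pow_zero, one_smul] at hn
    | succ n ih =>
      refine ih s (hinjU ?_)
      rw [map_zero, app_smul_u T a le_rfl, QC.resO_self, smul_smul, ← pow_succ', hn, map_zero]

/-- The rings of functions correspond. -/
theorem theta_bijective (hP : IsPair F U V) [QuasiCompact U.ι] [QuasiCompact V.ι] :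
    Function.Bijective (theta F hP) := by
  refine ⟨fun a a' h => ?_, fun b => ⟨theta F.symm hP.symm b, theta_theta F.symm hP.symm b⟩⟩
  rw [← theta_theta F hP a, h, theta_theta F hP a']

/-- The partner of an affine open is affine. -/
theorem isAffineOpen_pair (hU : IsAffineOpen U) (hP : IsPair F U V) : IsAffineOpen V := by
  haveI : QuasiCompact U.ι := FPExt.quasiCompact_ι hU.isCompact
  let A : Set Γ(X, U) := {a | IsAffineOpen (Y.basicOpen (theta F hP a))}
  have hA : ∀ y ∈ V, ∃ a ∈ A, y ∈ Y.basicOpen (theta F hP a) := by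
    intro y hy
    obtain ⟨W, hW, hyW, hWV⟩ := exists_isAffineOpen_mem_and_subset (X := Y) (x := y) (U := V) hy
    obtain ⟨U', hU'⟩ := exists_pair F.symm W hW.isCompact
    have hU'le : U' ≤ U := hU'.mono hP.symm hWV
    let B := {a : Γ(X, U) // X.basicOpen a ≤ U'}
    have hcov : U' ≤ iSup fun a : B => X.basicOpen a.1 := fun x hx => by
      obtain ⟨a, ha, hxa⟩ := hU.exists_basicOpen_le (⟨x, hx⟩ : U') (hU'le hx)
      exact Opens.mem_iSup.mpr ⟨⟨a, ha⟩, hxa⟩
    obtain ⟨a, ha⟩ := Opens.mem_iSup.mp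
      (hU'.symm.cover (fun a : B => isPair_basicOpen F hU hP a.1) hcov hyW)
    refine ⟨a.1, ?_, ha⟩
    have hle : Y.basicOpen (theta F hP a.1) ≤ W := (isPair_basicOpen F hU hP a.1).mono hU'.symm a.2
    change IsAffineOpen _
    have e : Y.basicOpen (resO Y hWV (theta F hP a.1)) = Y.basicOpen (theta F hP a.1) :=
      (Y.basicOpen_res _ _).trans (inf_eq_right.mpr hle)
    rw [← e]
    exact hW.basicOpen _
  refine isAffineOpen_of_isAffineOpen_basicOpen V (theta F hP '' A) ?_ (by rintro _ ⟨a, ha, rfl⟩; exact ha)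
  rw [← Ideal.map_span]
  suffices h : Ideal.span A = ⊤ by rw [h, Ideal.map_top]
  rw [← hU.self_le_iSup_basicOpen_iff]
  refine hP.symm.cover (F := F.symm) (fun a : A => (isPair_basicOpen F hU hP a.1).symm) fun y hy => ?_
  obtain ⟨a, ha, hya⟩ := hA y hy
  exact Opens.mem_iSup.mpr ⟨⟨a, ha⟩, hya⟩

/-- The morphism on an affine piece. -/
noncomputable def piece (hU : IsAffineOpen U) [QuasiCompact U.ι] (hP : IsPair F U V) :
    (V : Scheme.{u}) ⟶ X :=
  V.toSpecΓ ≫ Spec.map (CommRingCat.ofHom (theta F hP)) ≫ hU.fromSpec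

theorem homOfLE_piece (hU : IsAffineOpen U) [QuasiCompact U.ι] (hP : IsPair F U V) {U' : X.Opens}
    {V' : Y.Opens} (hU' : IsAffineOpen U') [QuasiCompact U'.ι] (hP' : IsPair F U' V') (h : U' ≤ U)
    (hV : V' ≤ V) : Y.homOfLE hV ≫ piece F hU hP = piece F hU' hP' := by
  have hcomm : CommRingCat.ofHom (theta F hP) ≫ Y.presheaf.map (homOfLE hV).op =
      X.presheaf.map (homOfLE h).op ≫ CommRingCat.ofHom (theta F hP') := by
    ext a
    exact (theta_res F hP hP' h hV a).symm
  simp only [piece]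
  rw [← Scheme.Opens.toSpecΓ_SpecMap_presheaf_map_assoc V' V hV, ← Spec.map_comp_assoc, hcomm,
    Spec.map_comp_assoc, hU.map_fromSpec hU']

theorem piece_preimage_basicOpen (hU : IsAffineOpen U) [QuasiCompact U.ι] (hP : IsPair F U V) (a : Γ(X, U)) :
    piece F hU hP ⁻¹ᵁ X.basicOpen a = V.ι ⁻¹ᵁ Y.basicOpen (theta F hP a) := by
  rw [piece, Scheme.Hom.comp_preimage, Scheme.Hom.comp_preimage, hU.fromSpec_preimage_basicOpen]
  exact Scheme.Opens.toSpecΓ_preimage_basicOpen V (theta F hP a)

/-- The isomorphism of schemes. -/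
theorem exists_iso (F : QCohCat.QCoh X ≌ QCohCat.QCoh Y) :
    ∃ f : Y ≅ X, ∀ (U : X.Opens) (V : Y.Opens) (hU : IsAffineOpen U) (hP : IsPair F U V),
      f.hom ⁻¹ᵁ U = V ∧ ∀ [QuasiCompact U.ι], V.ι ≫ f.hom = piece F hU hP := by
  let ιι := X.affineOpens
  haveI hqc : ∀ k : ιι, QuasiCompact k.1.ι := fun k => FPExt.quasiCompact_ι k.2.isCompact
  have hex : ∀ k : ιι, ∃ V : Y.Opens, IsPair F k.1 V := fun k => exists_pair F k.1 k.2.isCompact
  choose Vk hVk using hex
  have htop : IsPair F ⊤ ⊤ := fun T =>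
    ⟨fun h => Off.of_isZero (F.functor.map_isZero (isZero_of_off h)),
      fun h => Off.of_isZero (IsZero.of_full_of_faithful_of_isZero F.functor _ (isZero_of_off h))⟩
  have hcov : IsOpenCover Vk := top_le_iff.mp (htop.cover hVk fun x _ => by
    obtain ⟨W, hW, hxW, -⟩ := exists_isAffineOpen_mem_and_subset (X := X) (x := x) (U := ⊤) trivial
    exact Opens.mem_iSup.mpr ⟨⟨W, hW⟩, hxW⟩)
  let 𝒰 := Y.openCoverOfIsOpenCover Vk hcov
  let P : ∀ k : ιι, (Vk k : Scheme.{u}) ⟶ X := fun k => piece F k.2 (hVk k)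
  have hagree : ∀ j k : ιι,
      Y.homOfLE (inf_le_left : Vk j ⊓ Vk k ≤ Vk j) ≫ P j = Y.homOfLE (inf_le_right : Vk j ⊓ Vk k ≤ Vk k) ≫ P k := by
    intro j k
    refine Scheme.hom_ext_of_forall _ _ fun z => ?_
    obtain ⟨W, VW, hW, hle, hPW, hz⟩ := (hVk j).exists_mem_inf (hVk k) j.2.isCompact
      (y := z.1) z.2.1 z.2.2
    haveI : QuasiCompact W.ι := FPExt.quasiCompact_ι hW.isCompact
    have hj : VW ≤ Vk j := hPW.mono (hVk j) (hle.trans inf_le_left)
    have hk : VW ≤ Vk k := hPW.mono (hVk k) (hle.trans inf_le_right)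
    refine ⟨(Vk j ⊓ Vk k).ι ⁻¹ᵁ VW, hz, ?_⟩
    let q := (Vk j ⊓ Vk k).ι ∣_ VW
    have ej : ((Vk j ⊓ Vk k).ι ⁻¹ᵁ VW).ι ≫ Y.homOfLE inf_le_left = q ≫ Y.homOfLE hj := by
      rw [← cancel_mono (Vk j).ι]
      simp [q, Category.assoc]
    have ek : ((Vk j ⊓ Vk k).ι ⁻¹ᵁ VW).ι ≫ Y.homOfLE inf_le_right = q ≫ Y.homOfLE hk := by
      rw [← cancel_mono (Vk k).ι]
      simp [q, Category.assoc]
    simp only [P, reassoc_of% ej, reassoc_of% ek]
    rw [homOfLE_piece F j.2 (hVk j) hW hPW (hle.trans inf_le_left) hj,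
      homOfLE_piece F k.2 (hVk k) hW hPW (hle.trans inf_le_right) hk]
  let f : Y ⟶ X := 𝒰.glueMorphisms P fun j k => by
    rw [← cancel_epi (isPullback_opens_inf (Vk j) (Vk k)).isoPullback.hom]
    exact ((isPullback_opens_inf (Vk j) (Vk k)).isoPullback_hom_fst_assoc (P j)).trans
      ((hagree j k).trans ((isPullback_opens_inf (Vk j) (Vk k)).isoPullback_hom_snd_assoc (P k)).symm)
  have hf : ∀ k : ιι, (Vk k).ι ≫ f = P k := fun k => 𝒰.ι_glueMorphisms P _ k
  have hfP : ∀ (U : X.Opens) (V : Y.Opens) (hU : IsAffineOpen U) (hP : IsPair F U V) [QuasiCompact U.ι],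
      V.ι ≫ f = piece F hU hP := by
    intro U V hU hP _
    obtain rfl : V = Vk ⟨U, hU⟩ := hP.unique (hVk ⟨U, hU⟩)
    exact hf ⟨U, hU⟩
  have hbasic : ∀ (k : ιι) (a : Γ(X, k.1)) (y : Y), y ∈ Vk k → f.base y ∈ X.basicOpen a →
      y ∈ Y.basicOpen (theta F (hVk k) a) := by
    intro k a y hy hya
    have h1 : (⟨y, hy⟩ : (Vk k : Scheme.{u})) ∈ piece F k.2 (hVk k) ⁻¹ᵁ X.basicOpen a := by
      rw [← show (Vk k).ι ≫ f = piece F k.2 (hVk k) from hf k]
      exact hya
    rw [piece_preimage_basicOpen] at h1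
    exact h1
  have hin : ∀ (k : ιι) (y : Y), y ∈ Vk k → f.base y ∈ k.1 := by
    intro k y hy
    change ((Vk k).ι ≫ f).base ⟨y, hy⟩ ∈ k.1
    rw [hf k]
    exact k.2.range_fromSpec.le ⟨_, rfl⟩
  have hpre : ∀ k : ιι, f ⁻¹ᵁ k.1 = Vk k := by
    intro k
    refine le_antisymm (fun y hy => ?_) (fun y hy => hin k y hy)
    obtain ⟨j, hj⟩ := Opens.mem_iSup.mp (hcov.ge (show y ∈ (⊤ : Y.Opens) from trivial))
    obtain ⟨a, ha, hya⟩ := j.2.exists_basicOpen_le (⟨f.base y, hy⟩ : k.1) (hin j y hj)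
    exact (isPair_basicOpen F j.2 (hVk j) a).mono (hVk k) ha (hbasic j a y hj hya)
  have hiso : IsIso f := by
    change MorphismProperty.isomorphisms Scheme f
    refine IsZariskiLocalAtTarget.of_iSup_eq_top (P := MorphismProperty.isomorphisms Scheme)
      (fun k : ιι => k.1) (iSup_affineOpens_eq_top X) fun k => ?_
    haveI : IsAffine (k.1 : Scheme.{u}) := k.2
    have hVaff : IsAffineOpen (f ⁻¹ᵁ k.1) := by
      rw [hpre k]; exact isAffineOpen_pair F k.2 (hVk k)
    have key : (f ∣_ k.1) = (Y.isoOfEq (hpre k)).hom ≫ (Vk k).toSpecΓ ≫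
        Spec.map (CommRingCat.ofHom (theta F (hVk k))) ≫ k.2.isoSpec.inv := by
      rw [← cancel_mono k.1.ι]
      simp only [morphismRestrict_ι, Category.assoc]
      rw [k.2.isoSpec_inv_ι]
      change _ = (Y.isoOfEq (hpre k)).hom ≫ P k
      rw [← hf k, Scheme.isoOfEq_hom_ι_assoc]
    change IsIso (f ∣_ k.1)
    rw [key]
    haveI : QuasiCompact (Vk k).ι := FPExt.quasiCompact_ι ((hVk k).isCompact k.2.isCompact)
    haveI : IsIso (Vk k).toSpecΓ := by
      rw [← (isAffineOpen_pair F k.2 (hVk k)).isoSpec_hom]; infer_instance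
    haveI : IsIso (CommRingCat.ofHom (theta F (hVk k))) :=
      (ConcreteCategory.isIso_iff_bijective _).mpr (theta_bijective F (hVk k))
    infer_instance
  refine ⟨asIso f, fun U V hU hP => ⟨?_, hfP U V hU hP⟩⟩
  obtain rfl : V = Vk ⟨U, hU⟩ := hP.unique (hVk ⟨U, hU⟩)
  exact hpre ⟨U, hU⟩

end Groth.Agent.GRLib
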