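import Groth.Agent.GRLib.Twist
import Groth.Agent.W7Cech.TensorSec
import Groth.Agent.S2122
import Groth.Agent.FPExt.Basic

/-!
Gabriel–Rosenberg reconstruction for quasi-compact quasi-separated schemes.
-/

set_option autoImplicit false
set_option linter.style.haveILetI false
set_option linter.unusedVariables false
set_option linter.unusedSectionVars false
set_option backward.isDefEq.respectTransparency false
set_option backward.isDefEq.respectTransparency.types false
set_option maxHeartbeats 400000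

universe u

open CategoryTheory CategoryTheory.Limits AlgebraicGeometry TopologicalSpace Opposite
open Groth.Agent.QC (res resO)
open scoped TensorProduct

namespace Groth.Agent.GRLib

variable {X Y : Scheme.{u}} [CompactSpace X] [QuasiSeparatedSpace X] [CompactSpace Y] [QuasiSeparatedSpace Y]

/-- An isomorphism realising the correspondence of affine opens. -/
def IsCompat (F : QCohCat.QCoh X ≌ QCohCat.QCoh Y) (f : Y ≅ X) : Prop :=
  ∀ (U : X.Opens) (V : Y.Opens) (hU : IsAffineOpen U) (hP : IsPair F U V),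
    f.hom ⁻¹ᵁ U = V ∧ ∀ [QuasiCompact U.ι], V.ι ≫ f.hom = piece F hU hP

variable {F : QCohCat.QCoh X ≌ QCohCat.QCoh Y} {f : Y ≅ X} (hf : IsCompat F f)

include hf

lemma isPair_image {W : Y.Opens} (hW : IsAffineOpen W) : IsPair F (f.hom ''ᵁ W) W := by
  have hU := hW.image_of_isOpenImmersion f.hom
  obtain ⟨V, hV⟩ := exists_pair F (f.hom ''ᵁ W) hU.isCompact
  obtain rfl : W = V := (f.hom.preimage_image_eq W).symm.trans (hf _ V hU hV).1
  exact hV

lemma theta_appIso_inv {W : Y.Opens} (hW : IsAffineOpen W) [QuasiCompact (f.hom ''ᵁ W).ι] (r : Γ(Y, W)) :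
    theta F (isPair_image hf hW) ((f.hom.appIso W).inv r) = r := by
  have hU := hW.image_of_isOpenImmersion f.hom
  have hP := isPair_image hf hW
  have h1 := (hf _ W hU hP).2
  have h2 : f.hom.appLE (f.hom ''ᵁ W) W (f.hom.preimage_image_eq W).ge = CommRingCat.ofHom (theta F hP) := by
    apply Spec.map_injective
    rw [← cancel_mono hU.fromSpec, hU.SpecMap_appLE_fromSpec f.hom hW (f.hom.preimage_image_eq W).ge]
    rw [← cancel_epi hW.isoSpec.hom, hW.isoSpec_hom_fromSpec_assoc, h1, hW.isoSpec_hom]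
    rfl
  rw [← Scheme.Hom.appIso_hom'] at h2
  have h3 := ConcreteCategory.congr_hom h2 ((f.hom.appIso W).inv r)
  exact h3.symm.trans (ConcreteCategory.congr_hom (f.hom.appIso W).inv_hom_id r)

lemma theta_bijective_aux {W : Y.Opens} (hW : IsAffineOpen W) [QuasiCompact (f.hom ''ᵁ W).ι]
    (a : Γ(X, f.hom ''ᵁ W)) : (f.hom.appIso W).inv (theta F (isPair_image hf hW) a) = a := by
  haveI := FPExt.quasiCompact_ι (U := W) hW.isCompact
  apply (theta_bijective F (isPair_image hf hW)).1
  exact theta_appIso_inv hf hW _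

/-- The pulled back module. -/
noncomputable abbrev Pull (f : Y ≅ X) (T : QCohCat.QCoh X) : Y.Modules := T.obj.restrict f.hom

/-- The image of the structure sheaf. -/
noncomputable abbrev L₀ (F : QCohCat.QCoh X ≌ QCohCat.QCoh Y) : Y.Modules := (F.functor.obj (O X)).obj

/-- The pairing on an affine open. -/
noncomputable def pairW {W : Y.Opens} (hW : IsAffineOpen W) (T : QCohCat.QCoh X) (s : Γ(Pull f T, W))
    (l : Γ(L₀ F, W)) : Γ((F.functor.obj T).obj, W) :=
  haveI := FPExt.quasiCompact_ι (hW.image_of_isOpenImmersion f.hom).isCompact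
  pairAff F (hW.image_of_isOpenImmersion f.hom) (isPair_image hf hW) T s l

lemma pairW_smul_left {W : Y.Opens} (hW : IsAffineOpen W) (T : QCohCat.QCoh X) (r : Γ(Y, W))
    (s : Γ(Pull f T, W)) (l : Γ(L₀ F, W)) : pairW hf hW T (r • s) l = r • pairW hf hW T s l := by
  haveI := FPExt.quasiCompact_ι (hW.image_of_isOpenImmersion f.hom).isCompact
  refine (pairAff_smul_left F _ (isPair_image hf hW) T ((f.hom.appIso W).inv r) s l).trans ?_
  rw [theta_appIso_inv hf hW]
  rfl

lemma pairW_res (T : QCohCat.QCoh X) {W W' : Y.Opens} (hW : IsAffineOpen W) (hW' : IsAffineOpen W')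
    (h : W' ≤ W) (s : Γ(Pull f T, W)) (l : Γ(L₀ F, W)) :
    res (F.functor.obj T).obj h (pairW hf hW T s l) = pairW hf hW' T (res (Pull f T) h s) (res (L₀ F) h l) := by
  haveI := FPExt.quasiCompact_ι (hW.image_of_isOpenImmersion f.hom).isCompact
  haveI := FPExt.quasiCompact_ι (hW'.image_of_isOpenImmersion f.hom).isCompact
  exact pairAff_res F (hW.image_of_isOpenImmersion f.hom) (isPair_image hf hW) T
    (hW'.image_of_isOpenImmersion f.hom) (isPair_image hf hW') (f.hom.image_mono h) h s l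

lemma exists_pairing (T : QCohCat.QCoh X) (W : Y.Opens) (s : Γ(Pull f T, W)) (l : Γ(L₀ F, W)) :
    ∃ t : Γ((F.functor.obj T).obj, W), ∀ (W' : Y.affineOpens) (h : W'.1 ≤ W),
      res (F.functor.obj T).obj h t = pairW hf W'.2 T (res (Pull f T) h s) (res (L₀ F) h l) := by
  let I := {W' : Y.affineOpens // W'.1 ≤ W}
  have hcov : W ≤ iSup fun i : I => i.1.1 := fun x hx => by
    obtain ⟨V, hV, hxV, hle⟩ := exists_isAffineOpen_mem_and_subset (X := Y) (x := x) (U := W) hx
    exact Opens.mem_iSup.mpr ⟨⟨⟨V, hV⟩, hle⟩, hxV⟩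
  obtain ⟨t, ht, -⟩ := (QC.abSheaf (F.functor.obj T).obj).existsUnique_gluing' (fun i : I => i.1.1) W
    (fun i => homOfLE i.2) hcov (fun i => pairW hf i.1.2 T (res (Pull f T) i.2 s) (res (L₀ F) i.2 l))
    (fun i j => by
      refine QC.section_eq_of_locally (M := (F.functor.obj T).obj) fun x hx => ?_
      obtain ⟨V, hV, hxV, hle⟩ := exists_isAffineOpen_mem_and_subset (X := Y) (x := x) (U := i.1.1 ⊓ j.1.1) hx
      refine ⟨V, hle, hxV, ?_⟩
      show res _ hle (res (F.functor.obj T).obj inf_le_left _) = res _ hle (res (F.functor.obj T).obj inf_le_right _)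
      rw [QC.res_res, QC.res_res, pairW_res hf T i.1.2 hV, pairW_res hf T j.1.2 hV, QC.res_res, QC.res_res,
        QC.res_res, QC.res_res])
  exact ⟨t, fun W' h => ht ⟨W', h⟩⟩

/-- The pairing on any open. -/
noncomputable def pairing (T : QCohCat.QCoh X) (W : Y.Opens) (s : Γ(Pull f T, W)) (l : Γ(L₀ F, W)) :
    Γ((F.functor.obj T).obj, W) := (exists_pairing hf T W s l).choose

lemma pairing_spec (T : QCohCat.QCoh X) (W : Y.Opens) (s : Γ(Pull f T, W)) (l : Γ(L₀ F, W))
    (W' : Y.affineOpens) (h : W'.1 ≤ W) :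
    res (F.functor.obj T).obj h (pairing hf T W s l) =
      pairW hf W'.2 T (res (Pull f T) h s) (res (L₀ F) h l) :=
  (exists_pairing hf T W s l).choose_spec W' h

lemma pairing_unique (T : QCohCat.QCoh X) (W : Y.Opens) (s : Γ(Pull f T, W)) (l : Γ(L₀ F, W))
    (t : Γ((F.functor.obj T).obj, W))
    (ht : ∀ (W' : Y.affineOpens) (h : W'.1 ≤ W),
      res (F.functor.obj T).obj h t = pairW hf W'.2 T (res (Pull f T) h s) (res (L₀ F) h l)) :
    pairing hf T W s l = t := by
  refine QC.section_eq_of_locally fun x hx => ?_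
  obtain ⟨V, hV, hxV, hle⟩ := exists_isAffineOpen_mem_and_subset (X := Y) (x := x) (U := W) hx
  exact ⟨V, hle, hxV, (pairing_spec hf T W s l ⟨V, hV⟩ hle).trans (ht ⟨V, hV⟩ hle).symm⟩

lemma pairing_affine (T : QCohCat.QCoh X) {W : Y.Opens} (hW : IsAffineOpen W) (s : Γ(Pull f T, W))
    (l : Γ(L₀ F, W)) : pairing hf T W s l = pairW hf hW T s l :=
  pairing_unique hf T W s l _ fun W' h => pairW_res hf T hW W'.2 h s l

/-- The pairing as a bilinear map. -/
noncomputable def bil (T : QCohCat.QCoh X) (W : Y.Opens) :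
    Γ(Pull f T, W) →ₗ[Γ(Y, W)] Γ(L₀ F, W) →ₗ[Γ(Y, W)] Γ((F.functor.obj T).obj, W) :=
  LinearMap.mk₂ Γ(Y, W) (pairing hf T W)
    (fun s s' l => pairing_unique hf T W _ _ _ fun W' h => by
      haveI := FPExt.quasiCompact_ι (W'.2.image_of_isOpenImmersion f.hom).isCompact
      rw [map_add, pairing_spec, pairing_spec, map_add]
      exact (pairAff_add_left F _ (isPair_image hf W'.2) T _ _ _).symm)
    (fun r s l => pairing_unique hf T W _ _ _ fun W' h => by
      rw [QC.res_smul, pairing_spec, QC.res_smul, pairW_smul_left])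
    (fun s l l' => pairing_unique hf T W _ _ _ fun W' h => by
      haveI := FPExt.quasiCompact_ι (W'.2.image_of_isOpenImmersion f.hom).isCompact
      rw [map_add, pairing_spec, pairing_spec, map_add]
      exact (pairAff_add_right F _ (isPair_image hf W'.2) T _ _ _).symm)
    (fun r s l => pairing_unique hf T W _ _ _ fun W' h => by
      haveI := FPExt.quasiCompact_ι (W'.2.image_of_isOpenImmersion f.hom).isCompact
      rw [QC.res_smul, pairing_spec, QC.res_smul]
      exact (pairAff_smul_right F _ (isPair_image hf W'.2) T _ _ _).symm)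

lemma bil_res (T : QCohCat.QCoh X) {V W : Y.Opens} (h : V ≤ W) (s : Γ(Pull f T, W)) (l : Γ(L₀ F, W)) :
    res (F.functor.obj T).obj h (bil hf T W s l) = bil hf T V (res (Pull f T) h s) (res (L₀ F) h l) := by
  refine (pairing_unique hf T V _ _ _ fun W' h' => ?_).symm
  rw [QC.res_res, QC.res_res, QC.res_res]
  exact pairing_spec hf T W s l W' (h'.trans h)

/-- The comparison morphism. -/
noncomputable def comparison (T : QCohCat.QCoh X) :
    CohB1.tensorMod (Pull f T) (L₀ F) ⟶ (F.functor.obj T).obj :=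
  TMul.lift (bil hf T) (bil_res hf T)

lemma comparison_tm (T : QCohCat.QCoh X) {W : Y.Opens} (s : Γ(Pull f T, W)) (l : Γ(L₀ F, W)) :
    (comparison hf T).app W (TMul.tm s l) = pairing hf T W s l := by
  exact TMul.lift_tm (bil hf T) (bil_res hf T) s l

lemma comparison_natural {T T' : QCohCat.QCoh X} (m : T ⟶ T') :
    (DCoh.tensorRightMod (L₀ F)).map ((Scheme.Modules.restrictFunctor f.hom).map m.hom) ≫ comparison hf T' =
      comparison hf T ≫ (F.functor.map m).hom := by
  refine TMul.hom_ext fun W s l => ?_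
  change (comparison hf T').app W (((DCoh.tensorRightMod (L₀ F)).map
      ((Scheme.Modules.restrictFunctor f.hom).map m.hom)).app W (TMul.tm s l)) =
    (F.functor.map m).hom.app W ((comparison hf T).app W (TMul.tm s l))
  refine (congrArg _ (W7Cech.map_tm _ _ _ _)).trans ?_
  rw [comparison_tm, comparison_tm]
  refine pairing_unique hf T' W _ _ _ fun W' h => ?_
  haveI := FPExt.quasiCompact_ι (W'.2.image_of_isOpenImmersion f.hom).isCompact
  rw [QC.app_res, pairing_spec, QC.app_res]
  exact (pairAff_nat F (W'.2.image_of_isOpenImmersion f.hom) (isPair_image hf W'.2) m _ _).symm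

theorem bijective_comparison (T : QCohCat.QCoh X) {W : Y.Opens} (hW : IsAffineOpen W) :
    Function.Bijective ((comparison hf T).app W) := by
  classical
  have hU := hW.image_of_isOpenImmersion f.hom
  haveI := FPExt.quasiCompact_ι hU.isCompact
  have hP := isPair_image hf hW
  obtain ⟨hfin, hproj⟩ := projective_K F hU hP
  haveI := hfin
  haveI := hproj
  obtain ⟨n, p, g, -, -, hpg⟩ := Module.Finite.exists_comp_eq_id_of_projective Γ(X, f.hom ''ᵁ W)
    Γ((K F).obj, f.hom ''ᵁ W)
  let x : Fin n → Γ((K F).obj, f.hom ''ᵁ W) := fun i => p (Pi.single i 1)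
  let lam : Fin n → (Γ((K F).obj, f.hom ''ᵁ W) →ₗ[Γ(X, f.hom ''ᵁ W)] Γ((O X).obj, f.hom ''ᵁ W)) :=
    fun i => (LinearMap.proj i).comp g
  have hdual : ∀ (z : Γ((K F).obj, f.hom ''ᵁ W)),
      ∑ i, (show Γ(X, f.hom ''ᵁ W) from lam i z) • x i = z := fun z => by
    conv_rhs => rw [← LinearMap.id_apply (R := Γ(X, f.hom ''ᵁ W)) z, ← hpg, LinearMap.comp_apply,
      pi_eq_sum_univ' (g z), map_sum]
    simp only [x, lam, map_smul]
    rfl
  let Φ := Phi F hU hP
  have hzero : ∀ T', Φ T' 0 = 0 := fun T' => by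
    have h := Phi_add F hU hP T' 0 0
    rw [add_zero] at h
    exact (left_eq_add.mp h)
  have hsum : ∀ T' (h : Fin n → _), Φ T' (∑ i, h i) = ∑ i, Φ T' (h i) := fun T' h => by
    let Φ' : _ →+ Γ((F.functor.obj T').obj, W) :=
      { toFun := Φ T', map_zero' := hzero T', map_add' := Phi_add F hU hP T' }
    exact map_sum Φ' h Finset.univ
  let tt := TMul.tt (Pull f T) (L₀ F) W
  let ψ : Γ(Pull f T, W) ⊗[Γ(Y, W)] Γ(L₀ F, W) → Γ((F.functor.obj T).obj, W) :=
    fun q => (comparison hf T).app W (tt q)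
  have hψ : ∀ s l, ψ (s ⊗ₜ l) = pairAff F hU hP T s l := fun s l => by
    refine (congrArg ((comparison hf T).app W) (TMul.tt_tmul s l)).trans ?_
    rw [comparison_tm, pairing_affine hf T hW]
    rfl
  let I : (Γ((K F).obj, f.hom ''ᵁ W) →ₗ[Γ(X, f.hom ''ᵁ W)] Γ(T.obj, f.hom ''ᵁ W)) →
      Γ(Pull f T, W) ⊗[Γ(Y, W)] Γ(L₀ F, W) :=
    fun h => ∑ i, (show Γ(Pull f T, W) from h (x i)) ⊗ₜ[Γ(Y, W)] (show Γ(L₀ F, W) from Φ (O X) (lam i))
  have hψI : ∀ h, ψ (I h) = Φ T h := fun h => by
    have e1 : ψ (I h) = ∑ i, ψ ((show Γ(Pull f T, W) from h (x i)) ⊗ₜ[Γ(Y, W)]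
        (show Γ(L₀ F, W) from Φ (O X) (lam i))) :=
      (congrArg _ (map_sum tt _ _)).trans (map_sum ((comparison hf T).app W).hom _ _)
    rw [e1]
    have e2 : h = ∑ i, (LinearMap.toSpanSingleton Γ(X, f.hom ''ᵁ W) Γ(T.obj, f.hom ''ᵁ W) (h (x i))).comp
        (lam i) := LinearMap.ext fun z => by
      rw [LinearMap.sum_apply]
      conv_lhs => rw [← hdual z, map_sum]
      simp only [map_smul]
      rfl
    conv_rhs => rw [e2, hsum]
    refine Finset.sum_congr rfl fun i _ => ?_
    rw [hψ]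
    exact pairAff_Phi F hU hP T (h (x i)) (lam i)
  have hrep : ∀ q, ∃ h, q = I h := by
    intro q
    induction q using TensorProduct.induction_on with
    | zero =>
      refine ⟨0, (Finset.sum_eq_zero fun i _ => ?_).symm⟩
      exact TensorProduct.zero_tmul _ _
    | tmul s l =>
      obtain ⟨μ, rfl⟩ := Phi_surjective F hU hP (O X) l
      refine ⟨(LinearMap.toSpanSingleton Γ(X, f.hom ''ᵁ W) Γ(T.obj, f.hom ''ᵁ W) s).comp μ, ?_⟩
      let c : Fin n → Γ(X, f.hom ''ᵁ W) := fun i => μ (x i)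
      have hμ : μ = ∑ i, c i • lam i := LinearMap.ext fun z => by
        rw [LinearMap.sum_apply]
        conv_lhs => rw [← hdual z, map_sum]
        simp only [map_smul, LinearMap.smul_apply]
        exact Finset.sum_congr rfl fun i _ => mul_comm (show Γ(X, f.hom ''ᵁ W) from lam i z) (c i)
      have hc : ∀ i, (show Γ(Pull f T, W) from
          ((LinearMap.toSpanSingleton Γ(X, f.hom ''ᵁ W) Γ(T.obj, f.hom ''ᵁ W) s).comp μ) (x i)) =
          (theta F hP (c i)) • (show Γ(Pull f T, W) from s) := fun i => by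
        change c i • (show Γ(T.obj, f.hom ''ᵁ W) from s) =
          ((f.hom.appIso W).inv (theta F hP (c i))) • (show Γ(T.obj, f.hom ''ᵁ W) from s)
        congr 1
        refine (theta_bijective_aux hf hW (c i)).symm
      conv_lhs => rw [hμ, show Phi F hU hP (O X) = Φ (O X) from rfl, hsum, TensorProduct.tmul_sum]
      refine Finset.sum_congr rfl fun i _ => ?_
      rw [hc i, TensorProduct.smul_tmul]
      congr 1
      exact Phi_smul F hU hP (O X) (c i) (lam i)
    | add a b ha hb =>
      obtain ⟨h, rfl⟩ := ha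
      obtain ⟨h', rfl⟩ := hb
      refine ⟨h + h', ?_⟩
      rw [← Finset.sum_add_distrib]
      refine Finset.sum_congr rfl fun i _ => ?_
      exact (TensorProduct.add_tmul _ _ _).symm
  have hb : Function.Bijective ψ := by
    refine ⟨fun q q' e => ?_, fun t => ?_⟩
    · obtain ⟨h, rfl⟩ := hrep q
      obtain ⟨h', rfl⟩ := hrep q'
      rw [hψI, hψI] at e
      rw [Phi_injective F hU hP T e]
    · obtain ⟨h, rfl⟩ := Phi_surjective F hU hP T t
      exact ⟨I h, hψI h⟩
  have htt := HTorBC.bijective_tt hW (QC.isQCoh_restrict f.hom T.property) (F.functor.obj (O X)).property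
    (M := Pull f T) (N := L₀ F)
  exact (Function.Bijective.of_comp_iff _ htt).mp hb

theorem isIso_comparison (T : QCohCat.QCoh X) : IsIso (comparison hf T) := by
  haveI : Mono (comparison hf T) := QC.mono_of_injective_basis _ (B := fun W : Y.affineOpens => W.1)
    (by rw [Subtype.range_coe]; exact Y.isBasis_affineOpens) fun W => (bijective_comparison hf T W.2).1
  haveI : Epi (comparison hf T) := FPExt.epi_of_locally _ fun W t y hy => by
    obtain ⟨V, hV, hyV, hle⟩ := exists_isAffineOpen_mem_and_subset (X := Y) (x := y) (U := W) hy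
    obtain ⟨s, hs⟩ := (bijective_comparison hf T hV).2 (res _ hle t)
    exact ⟨V, hle, hyV, s, hs⟩
  exact isIso_of_mono_of_epi _

/-- The natural isomorphism. -/
noncomputable def natIso :
    F.functor ⋙ (QCohCat.isQCoh Y).ι ≅
      (QCohCat.isQCoh X).ι ⋙ Scheme.Modules.restrictFunctor f.hom ⋙ DCoh.tensorRightMod (L₀ F) :=
  (NatIso.ofComponents (fun T => @asIso _ _ _ _ (comparison hf T) (isIso_comparison hf T))
    (fun m => comparison_natural hf m)).symm

omit hf in
theorem reconstruction (F : QCohCat.QCoh X ≌ QCohCat.QCoh Y) :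
    ∃ (f : Y ≅ X) (L : Y.Modules), PicF.IsInvertible L ∧
      Nonempty (F.functor ⋙ (QCohCat.isQCoh Y).ι ≅
        (QCohCat.isQCoh X).ι ⋙ Scheme.Modules.pullback f.hom ⋙ DCoh.tensorRightMod L) := by
  obtain ⟨f, hf⟩ := exists_iso F
  haveI := isIso_comparison hf (K F)
  refine ⟨f, L₀ F, ?_, ⟨natIso hf ≪≫ Functor.isoWhiskerLeft _
    (Functor.isoWhiskerRight (Scheme.Modules.restrictFunctorIsoPullback f.hom) _)⟩⟩
  exact Groth.Agent.InvTensor.isInvertible (L₀ F) (Pull f (K F))
    (TMul.commIso _ _ ≪≫ asIso (comparison hf (K F)) ≪≫ (QCohCat.isQCoh Y).ι.mapIso (F.counitIso.app (O Y)))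

end Groth.Agent.GRLib
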