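import Groth.Agent.GRLib.Supp
import Groth.Agent.CohQC.QuasiAffine

/-!
Quasi-coherent modules extended from an open, and morphisms which are isomorphisms on an open.
-/

set_option autoImplicit false
set_option linter.style.haveILetI false
set_option backward.isDefEq.respectTransparency false
set_option backward.isDefEq.respectTransparency.types false
set_option maxHeartbeats 400000

universe u

open CategoryTheory CategoryTheory.Limits AlgebraicGeometry TopologicalSpace Opposite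
open Groth.Agent.QC (res resO)

namespace Groth.Agent.GRLib

variable {X : Scheme.{u}}

/-- The module vanishes on the open. -/
def Off (U : X.Opens) (T : QCohCat.QCoh X) : Prop := CohB1.support T.obj ⊆ (U : Set X)ᶜ

lemma off_iff {U : X.Opens} {T : QCohCat.QCoh X} :
    Off U T ↔ ∀ W ≤ U, ∀ s : Γ(T.obj, W), s = 0 := by
  constructor
  · intro h W hW s
    refine QC.section_eq_of_locally fun x hx => ?_
    obtain ⟨V, hV, hxV, e⟩ := (QC.notMem_support_iff x).mp (fun hs => h hs (hW hx)) W hx s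
    exact ⟨V, hV, hxV, e.trans (map_zero _).symm⟩
  · intro h x hx hxU
    refine (QC.notMem_support_iff x).mpr (fun W hxW s => ?_) hx
    exact ⟨W ⊓ U, inf_le_left, ⟨hxW, hxU⟩, h _ inf_le_right _⟩

lemma Off.mono {U U' : X.Opens} (h : U' ≤ U) {T : QCohCat.QCoh X} (hT : Off U T) : Off U' T :=
  fun _x hx hxU => hT hx (h hxU)

lemma Off.of_mono {U : X.Opens} {A B : QCohCat.QCoh X} (f : A ⟶ B) [Mono f] (h : Off U B) : Off U A :=
  (support_mono f).trans h

lemma Off.of_epi {U : X.Opens} {A B : QCohCat.QCoh X} (f : A ⟶ B) [Epi f] (h : Off U A) : Off U B :=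
  (support_epi f).trans h

lemma Off.of_iso {U : X.Opens} {A B : QCohCat.QCoh X} (e : A ≅ B) (h : Off U A) : Off U B :=
  h.of_epi e.hom

lemma Off.of_isZero {U : X.Opens} {T : QCohCat.QCoh X} (h : IsZero T) : Off U T := by
  exact (support_eq_empty_of_isZero T.obj ((QCohCat.isQCoh X).ι.map_isZero h)).subset.trans (Set.empty_subset _)

lemma isZero_of_off {T : QCohCat.QCoh X} (h : Off ⊤ T) : IsZero T :=
  IsZero.of_full_of_faithful_of_isZero (QCohCat.isQCoh X).ι _
    (isZero_of_support_eq_empty _ (Set.eq_empty_of_forall_notMem fun _ hx => h hx trivial))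

/-- The morphism is an isomorphism on the open. -/
def IsoOn (U : X.Opens) {A B : X.Modules} (f : A ⟶ B) : Prop :=
  ∀ W ≤ U, Function.Bijective (f.app W)

lemma image_le' (U V : X.Opens) {W : (U : Scheme.{u}).Opens} (h : W ≤ U.ι ⁻¹ᵁ V) : U.ι ''ᵁ W ≤ V := by
  rintro _ ⟨y, hy, rfl⟩
  exact h hy

lemma le_image {U V : X.Opens} (h : V ≤ U) : V ≤ U.ι ''ᵁ (U.ι ⁻¹ᵁ V) :=
  fun y hy => ⟨⟨y, h hy⟩, hy, rfl⟩

lemma image_le_inf (U V : X.Opens) : U.ι ''ᵁ (U.ι ⁻¹ᵁ V) ≤ U ⊓ V :=
  le_inf (U.ι_image_le _) (image_le' U V le_rfl)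

lemma res_injective {M : X.Modules} {V W : X.Opens} (h : V ≤ W) (h' : W ≤ V) :
    Function.Injective (res M h) := fun a b e => by
  have := congrArg (res M h') e
  rwa [QC.res_res, QC.res_res, QC.res_self, QC.res_self] at this

lemma res_bijective {M : X.Modules} {V W : X.Opens} (h : V ≤ W) (h' : W ≤ V) :
    Function.Bijective (res M h) :=
  ⟨res_injective h h', fun b => ⟨res M h' b, by rw [QC.res_res, QC.res_self]⟩⟩

lemma bijective_app_of_isIso {A B : X.Modules} (f : A ⟶ B) [IsIso f] (W : X.Opens) :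
    Function.Bijective (f.app W) :=
  ConcreteCategory.bijective_of_isIso (f.app W)

lemma isIso_restrict_iff {U : X.Opens} {A B : X.Modules} (f : A ⟶ B) :
    IsIso ((Scheme.Modules.restrictFunctor U.ι).map f) ↔ IsoOn U f := by
  constructor
  · intro h W hW
    have hb : Function.Bijective (f.app (U.ι ''ᵁ (U.ι ⁻¹ᵁ W))) :=
      bijective_app_of_isIso ((Scheme.Modules.restrictFunctor U.ι).map f) (U.ι ⁻¹ᵁ W)
    have h1 : U.ι ''ᵁ (U.ι ⁻¹ᵁ W) ≤ W := image_le' U W le_rfl
    constructor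
    · intro a b e
      apply res_injective h1 (le_image hW)
      apply hb.1
      rw [← QC.app_res, ← QC.app_res, e]
    · intro b
      obtain ⟨a, ha⟩ := hb.2 (res B h1 b)
      refine ⟨res A (le_image hW) a, ?_⟩
      rw [← QC.app_res, ha, QC.res_res, QC.res_self]
  · intro h
    rw [Scheme.Modules.Hom.isIso_iff_isIso_app]
    intro W
    exact (ConcreteCategory.isIso_iff_bijective _).mpr (h (U.ι ''ᵁ W) (U.ι_image_le W))

lemma isZero_restrict_iff {U : X.Opens} (T : QCohCat.QCoh X) :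
    IsZero (((Scheme.Modules.restrictFunctor U.ι)).obj T.obj) ↔ Off U T := by
  constructor
  · intro h x hx hxU
    exact Set.eq_empty_iff_forall_notMem.mp (support_eq_empty_of_isZero _ h) ⟨x, hxU⟩
      ((mem_support_restrict_iff U.ι T.obj ⟨x, hxU⟩).mpr hx)
  · intro h
    refine isZero_of_support_eq_empty _ (Set.eq_empty_of_forall_notMem fun y hy => ?_)
    exact h ((mem_support_restrict_iff U.ι T.obj y).mp hy) y.2

lemma isoOn_iff {U : X.Opens} {A B : QCohCat.QCoh X} (f : A ⟶ B) :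
    IsoOn U f.hom ↔ Off U (kernel f) ∧ Off U (cokernel f) := by
  let L := (QCohCat.isQCoh X).ι ⋙ Scheme.Modules.restrictFunctor U.ι
  haveI : L.Additive := inferInstance
  rw [← isIso_restrict_iff, ← isZero_restrict_iff, ← isZero_restrict_iff]
  change IsIso (L.map f) ↔ IsZero (L.obj (kernel f)) ∧ IsZero (L.obj (cokernel f))
  constructor
  · intro h
    exact ⟨(isZero_kernel_of_mono (L.map f)).of_iso (PreservesKernel.iso L f),
      (isZero_cokernel_of_epi (L.map f)).of_iso (PreservesCokernel.iso L f)⟩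
  · rintro ⟨h1, h2⟩
    haveI := Preadditive.mono_of_isZero_kernel (L.map f) (h1.of_iso (PreservesKernel.iso L f).symm)
    haveI := Preadditive.epi_of_isZero_cokernel (L.map f) (h2.of_iso (PreservesCokernel.iso L f).symm)
    exact isIso_of_mono_of_epi (L.map f)

/-- A morphism vanishes on the open iff its image does. -/
lemma off_image_iff {U : X.Opens} {A B : QCohCat.QCoh X} (f : A ⟶ B) :
    Off U (Abelian.image f) ↔ ∀ W ≤ U, ∀ s : Γ(A.obj, W), f.hom.app W s = 0 := by
  constructor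
  · intro h W hW s
    refine (ConcreteCategory.congr_hom (congrArg (fun φ => Scheme.Modules.Hom.app φ W)
      (congrArg InducedCategory.Hom.hom (Abelian.image.fac f).symm)) s).trans ?_
    change (Abelian.image.ι f).hom.app W ((Abelian.factorThruImage f).hom.app W s) = 0
    exact (congrArg _ (off_iff.mp h W hW _)).trans (map_zero _)
  · intro h
    let L := (QCohCat.isQCoh X).ι ⋙ Scheme.Modules.restrictFunctor U.ι
    rw [← isZero_restrict_iff]
    change IsZero (L.obj (Abelian.image f))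
    have h0 : L.map f = 0 := by
      apply Scheme.Modules.hom_ext
      intro W
      ext s
      exact h (U.ι ''ᵁ W) (U.ι_image_le W) s
    haveI : Epi (L.map (Abelian.factorThruImage f)) := inferInstance
    haveI : Mono (L.map (Abelian.image.ι f)) := inferInstance
    have h1 : L.map (Abelian.factorThruImage f) = 0 := by
      rw [← cancel_mono (L.map (Abelian.image.ι f)), ← L.map_comp, Abelian.image.fac, h0, zero_comp]
    exact IsZero.of_epi_eq_zero _ h1

section Push

/-- The quasi-coherent extension of the restriction to a quasi-compact open. -/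
noncomputable def G (U : X.Opens) [QuasiCompact U.ι] (N : QCohCat.QCoh X) : QCohCat.QCoh X :=
  ⟨(Scheme.Modules.pushforward U.ι).obj (N.obj.restrict U.ι),
    QC.isQCoh_pushforward (hM := QC.isQCoh_restrict U.ι N.property) U.ι⟩

variable {U : X.Opens} [QuasiCompact U.ι]

/-- The canonical map to the extension. -/
noncomputable def u (U : X.Opens) [QuasiCompact U.ι] (N : QCohCat.QCoh X) : N ⟶ G U N :=
  ObjectProperty.homMk ((Scheme.Modules.restrictAdjunction U.ι).unit.app N.obj)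

lemma isoOn_u (U : X.Opens) [QuasiCompact U.ι] (N : QCohCat.QCoh X) : IsoOn U (u U N).hom := fun W hW => by
  have h : Function.Bijective (res N.obj (image_le' U W (le_refl (U.ι ⁻¹ᵁ W)))) :=
    res_bijective _ (le_image hW)
  exact h

lemma G_hom_ext {M N : QCohCat.QCoh X} {h h' : M ⟶ G U N}
    (e : ∀ W ≤ U, ∀ s : Γ(M.obj, W), h.hom.app W s = h'.hom.app W s) : h = h' := by
  apply ObjectProperty.hom_ext
  apply Scheme.Modules.hom_ext
  intro W
  ext s
  have h1 : W ⊓ U ≤ W := inf_le_left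
  have hinj : Function.Injective (res (G U N).obj h1) := by
    intro a b eab
    have h2 : U.ι ''ᵁ (U.ι ⁻¹ᵁ W) ≤ U.ι ''ᵁ (U.ι ⁻¹ᵁ (W ⊓ U)) :=
      (image_le_inf U W).trans ((le_of_eq (inf_comm U W)).trans (le_image inf_le_right))
    exact res_injective (M := N.obj) (U.ι.image_mono (U.ι.preimage_mono h1)) h2 eab
  apply hinj
  rw [QC.app_res, QC.app_res]
  exact e _ inf_le_right _

/-- Restriction between two extensions. -/
noncomputable def resPush {Y₁ Y₂ : Scheme.{u}} (j₁ : Y₁ ⟶ X) (j₂ : Y₂ ⟶ X) [IsOpenImmersion j₁]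
    [IsOpenImmersion j₂] (h : ∀ W : X.Opens, j₂ ''ᵁ (j₂ ⁻¹ᵁ W) ≤ j₁ ''ᵁ (j₁ ⁻¹ᵁ W)) (N : X.Modules) :
    (Scheme.Modules.pushforward j₁).obj (N.restrict j₁) ⟶
      (Scheme.Modules.pushforward j₂).obj (N.restrict j₂) :=
  ⟨PresheafOfModules.homMk
    { app := fun W => N.presheaf.map (homOfLE (h W.unop)).op
      naturality := fun W W' i => by
        ext s
        change res N (h W'.unop) (res N _ (show Γ(N, j₁ ''ᵁ (j₁ ⁻¹ᵁ W.unop)) from s)) =
          res N _ (res N (h W.unop) (show Γ(N, j₁ ''ᵁ (j₁ ⁻¹ᵁ W.unop)) from s))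
        rw [QC.res_res, QC.res_res] }
    fun W r s => by
      have e₁ : ∀ (a : Γ(X, W.unop)) (t : Γ((Scheme.Modules.pushforward j₁).obj (N.restrict j₁), W.unop)),
          (show Γ(N, j₁ ''ᵁ (j₁ ⁻¹ᵁ W.unop)) from a • t) =
            resO X (show j₁ ''ᵁ (j₁ ⁻¹ᵁ W.unop) ≤ W.unop from by rintro _ ⟨y, hy, rfl⟩; exact hy) a •
              (show Γ(N, j₁ ''ᵁ (j₁ ⁻¹ᵁ W.unop)) from t) := fun a t => by
        exact congrArg (fun c : Γ(X, j₁ ''ᵁ (j₁ ⁻¹ᵁ W.unop)) => c • (show Γ(N, j₁ ''ᵁ (j₁ ⁻¹ᵁ W.unop)) from t))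
          (ConcreteCategory.congr_hom (j₁.app_appIso_inv W.unop) a)
      have e₂ : ∀ (a : Γ(X, W.unop)) (t : Γ((Scheme.Modules.pushforward j₂).obj (N.restrict j₂), W.unop)),
          (show Γ(N, j₂ ''ᵁ (j₂ ⁻¹ᵁ W.unop)) from a • t) =
            resO X (show j₂ ''ᵁ (j₂ ⁻¹ᵁ W.unop) ≤ W.unop from by rintro _ ⟨y, hy, rfl⟩; exact hy) a •
              (show Γ(N, j₂ ''ᵁ (j₂ ⁻¹ᵁ W.unop)) from t) := fun a t => by
        exact congrArg (fun c : Γ(X, j₂ ''ᵁ (j₂ ⁻¹ᵁ W.unop)) => c • (show Γ(N, j₂ ''ᵁ (j₂ ⁻¹ᵁ W.unop)) from t))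
          (ConcreteCategory.congr_hom (j₂.app_appIso_inv W.unop) a)
      refine (congrArg (res N (h W.unop)) (e₁ r s)).trans ?_
      refine Eq.trans ?_ (e₂ r _).symm
      rw [QC.res_smul, QC.resO_resO]
      rfl⟩

end Push

/-- Global sections are full on quasi-coherent modules over an affine scheme. -/
lemma exists_map_Γ {R : CommRingCat.{u}} {M N : (Spec R).Modules} [M.IsQuasicoherent] [N.IsQuasicoherent]
    (γ : (moduleSpecΓFunctor (R := R)).obj M ⟶ (moduleSpecΓFunctor (R := R)).obj N) :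
    ∃ φ : M ⟶ N, (moduleSpecΓFunctor (R := R)).map φ = γ := by
  let φ : M ⟶ N := (asIso M.fromTildeΓ).inv ≫ tilde.map γ ≫ N.fromTildeΓ
  refine ⟨φ, (tilde.functor R).map_injective ?_⟩
  rw [← cancel_mono (asIso N.fromTildeΓ).hom]
  exact ((Scheme.Modules.fromTildeΓNatTrans (R := R)).naturality φ).trans
    ((asIso M.fromTildeΓ).hom_inv_id_assoc _)

section Affine

variable {U : X.Opens} (hU : IsAffineOpen U)

include hU in
/-- On an affine open a morphism from a quasi-coherent module is determined by the sections. -/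
lemma app_eq_of_affine {M : QCohCat.QCoh X} {N : X.Modules} {φ φ' : M.obj ⟶ N}
    (h : ∀ m : Γ(M.obj, U), φ.app U m = φ'.app U m) :
    ∀ W ≤ U, ∀ s : Γ(M.obj, W), φ.app W s = φ'.app W s := by
  intro W hW s
  refine QC.section_eq_of_locally fun x hx => ?_
  obtain ⟨a, haW, hxa⟩ := hU.exists_basicOpen_le (⟨x, hx⟩ : W) (hW hx)
  refine ⟨X.basicOpen a, haW, hxa, ?_⟩
  rw [QC.app_res, QC.app_res]
  obtain ⟨n, m, hm⟩ := (QC.isLoc_of_isQCoh hU (hM := M.property)).exists_extend a (res M.obj haW s)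
  have hu : IsUnit ((resO X (X.basicOpen_le a) a) ^ n) :=
    (RingedSpace.isUnit_res_basicOpen X.toRingedSpace a).pow n
  apply hu.smul_left_cancel.mp
  rw [← Scheme.Modules.Hom.app_smul, ← Scheme.Modules.Hom.app_smul, ← hm, ← QC.app_res, ← QC.app_res, h]

include hU in
lemma off_iff_affine {T : QCohCat.QCoh X} : Off U T ↔ ∀ m : Γ(T.obj, U), m = 0 := by
  refine ⟨fun h m => off_iff.mp h U le_rfl m, fun h => off_iff.mpr fun W hW s => ?_⟩
  exact app_eq_of_affine hU (φ := 𝟙 T.obj) (φ' := 0) h W hW s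

include hU in
/-- A morphism with cokernel vanishing on an affine open is surjective there. -/
lemma surjective_of_off {A B : QCohCat.QCoh X} (f : A ⟶ B) (h : Off U (cokernel f)) :
    Function.Surjective (f.hom.app U) := by
  haveI : Epi (Abelian.factorThruImage f).hom :=
    inferInstanceAs (Epi ((QCohCat.isQCoh X).ι.map (Abelian.factorThruImage f)))
  have h1 := QC.app_surjective_of_epi hU A.property (Abelian.image f).property
    (Abelian.factorThruImage f).hom
  have h2 : IsoOn U (Abelian.image.ι f).hom := by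
    rw [isoOn_iff]
    refine ⟨Off.of_isZero (isZero_kernel_of_mono _), Off.of_iso ?_ h⟩
    exact (cokernel.mapIso _ _ (Iso.refl _) (Iso.refl _) (by simp)) ≪≫
      cokernelEpiComp (Abelian.factorThruImage f) (Abelian.image.ι f)
  intro b
  obtain ⟨c, rfl⟩ := (h2 U le_rfl).2 b
  obtain ⟨a, rfl⟩ := h1 c
  exact ⟨a, ConcreteCategory.congr_hom (congrArg (fun φ => Scheme.Modules.Hom.app φ U)
    (congrArg InducedCategory.Hom.hom (Abelian.image.fac f).symm)) a⟩

include hU in
/-- A linear map of sections over an affine open extends to a morphism to the extension. -/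
lemma exists_hom_G [QuasiCompact U.ι] (M N : QCohCat.QCoh X)
    (g : Γ(M.obj, U) →ₗ[Γ(X, U)] Γ(N.obj, U)) :
    ∃ h : M ⟶ G U N, ∀ m, h.hom.app U m = (u U N).hom.app U (g m) := by
  let j := hU.fromSpec
  haveI hM' : (M.obj.restrict j).IsQuasicoherent := QC.isQCoh_restrict j M.property
  haveI hN' : (N.obj.restrict j).IsQuasicoherent := QC.isQCoh_restrict j N.property
  have hjr : Set.range j.base = U := hU.range_fromSpec
  have h1 : j ''ᵁ ⊤ ≤ U := by
    rintro _ ⟨y, -, rfl⟩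
    exact hjr.le ⟨y, rfl⟩
  have h2 : U ≤ j ''ᵁ ⊤ := fun y hy => by
    obtain ⟨z, rfl⟩ := hjr.ge hy
    exact ⟨z, trivial, rfl⟩
  let g₁ : Γ(M.obj, j ''ᵁ ⊤) →ₗ[Γ(X, j ''ᵁ ⊤)] Γ(N.obj, j ''ᵁ ⊤) :=
    { toFun := fun x => res N.obj h1 (g (res M.obj h2 x))
      map_add' := fun x y => by simp only [map_add]
      map_smul' := fun c x => by
        simp only [QC.res_smul, map_smul, QC.resO_resO, QC.resO_self, RingHom.id_apply] }
  let R : CommRingCat.{u} := Γ(X, U)
  let γl : Γ(M.obj.restrict j, ⊤) →ₗ[R] Γ(N.obj.restrict j, ⊤) :=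
    { toFun := fun x => g₁ x
      map_add' := fun x y => map_add g₁ x y
      map_smul' := fun r x =>
        g₁.map_smul ((j.appIso ⊤).inv (algebraMap R Γ(Spec R, ⊤) r)) x }
  let γ : (moduleSpecΓFunctor (R := R)).obj (M.obj.restrict j) ⟶
      (moduleSpecΓFunctor (R := R)).obj (N.obj.restrict j) := (ModuleCat.ofHom γl :)
  obtain ⟨φ, hφ⟩ := exists_map_Γ (R := Γ(X, U)) (M := M.obj.restrict j) (N := N.obj.restrict j) γ
  have hle : ∀ W : X.Opens, U.ι ''ᵁ (U.ι ⁻¹ᵁ W) ≤ j ''ᵁ (j ⁻¹ᵁ W) := by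
    intro W y hy
    obtain ⟨hyU, hyW⟩ := image_le_inf U W hy
    obtain ⟨z, rfl⟩ := hjr.ge hyU
    exact ⟨z, hyW, rfl⟩
  let h : M ⟶ G U N := ObjectProperty.homMk
    (((Scheme.Modules.restrictAdjunction j).homEquiv _ _ φ) ≫ resPush j U.ι hle N.obj)
  refine ⟨h, fun m => ?_⟩
  have hj : j ⁻¹ᵁ U = ⊤ := hU.fromSpec_preimage_self
  have h3 : j ''ᵁ (j ⁻¹ᵁ U) ≤ j ''ᵁ ⊤ := j.image_mono le_top
  have h4 : j ''ᵁ (j ⁻¹ᵁ U) ≤ U := h3.trans h1
  have e1 : h.hom.app U m =
      res N.obj (hle U) (φ.app (j ⁻¹ᵁ U) (res M.obj h4 m)) := rfl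
  have e2 : φ.app ⊤ (res M.obj h1 m) = res N.obj h1 (g m) := by
    have e2' : γ (res M.obj h1 m) = res N.obj h1 (g (res M.obj h2 (res M.obj h1 m))) := rfl
    refine ((ConcreteCategory.congr_hom hφ (res M.obj h1 m)).trans e2').trans ?_
    exact congrArg (fun t => res N.obj h1 (g t))
      ((QC.res_res M.obj h2 h1 m).trans (QC.res_self M.obj le_rfl m))
  have e3 : φ.app (j ⁻¹ᵁ U) (res M.obj h4 m) = res N.obj h3 (φ.app ⊤ (res M.obj h1 m)) := by
    refine Eq.trans ?_ (QC.app_res φ (le_top : j ⁻¹ᵁ U ≤ ⊤) (res M.obj h1 m)).symm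
    refine congrArg (φ.app (j ⁻¹ᵁ U)) ?_
    exact (QC.res_res M.obj h3 h1 m).symm
  have e4 : (u U N).hom.app U (g m) = res N.obj (image_le' U U le_rfl) (g m) := rfl
  refine (e1.trans (congrArg (res N.obj (hle U)) (e3.trans (congrArg (res N.obj h3) e2)))).trans ?_
  exact ((congrArg (res N.obj (hle U)) (QC.res_res N.obj h3 h1 (g m))).trans
    (QC.res_res N.obj (hle U) h4 (g m))).trans e4.symm

end Affine

end Groth.Agent.GRLib
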