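import Groth.Agent.GRLib.Open
import Groth.Agent.S2214
import Groth.Agent.SchDense.Unit
import Groth.Agent.QC.IdealMod
import Groth.Agent.FPExt.Extend

/-!
The correspondence of quasi-compact opens induced by an equivalence of quasi-coherent categories.
-/

set_option autoImplicit false
set_option linter.style.haveILetI false
set_option linter.unusedVariables false
set_option linter.unusedSectionVars false
set_option backward.isDefEq.respectTransparency false
set_option backward.isDefEq.respectTransparency.types false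
set_option maxHeartbeats 400000

universe u

open CategoryTheory CategoryTheory.Limits AlgebraicGeometry TopologicalSpace Opposite
open Groth.Agent.QC (res resO Sub Sub.isCoh_toModules)

namespace Groth.Agent.GRLib

variable {X Y : Scheme.{u}}

section Skyscraper

variable [QuasiSeparatedSpace X]

/-- The residue field at a point as a quasi-coherent module. -/
noncomputable def sky (x : X) : QCohCat.QCoh X :=
  haveI : QuasiCompact (X.fromSpecResidueField x) := inferInstance
  ⟨(Scheme.Modules.pushforward (X.fromSpecResidueField x)).obj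
      (Coh.structureModule (Spec (X.residueField x))),
    QC.isQCoh_pushforward (hM := QC.isQCoh_unit _) (X.fromSpecResidueField x)⟩

lemma sky_res_injective (x : X) {W' W : X.Opens} (h : W' ≤ W) (hx : x ∈ W → x ∈ W') :
    Function.Injective (res (sky x).obj h) := by
  let i := X.fromSpecResidueField x
  have hle : i ⁻¹ᵁ W ≤ i ⁻¹ᵁ W' := fun y hy => by
    change i.base y ∈ W'
    rw [X.fromSpecResidueField_apply]
    exact hx (X.fromSpecResidueField_apply x y ▸ hy)
  intro a b e
  exact res_injective (M := Coh.structureModule (Spec (X.residueField x))) (i.preimage_mono h) hle e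

lemma off_sky (x : X) {V : X.Opens} (hx : x ∉ V) : Off V (sky x) := by
  rw [off_iff]
  intro W hW s
  apply sky_res_injective x (bot_le : (⊥ : X.Opens) ≤ W) (fun h => absurd (hW h) hx)
  refine QC.section_eq_of_locally fun y hy => ?_
  exact hy.elim

lemma not_off_sky (x : X) {V : X.Opens} (hx : x ∈ V) : ¬ Off V (sky x) := by
  intro h
  let i := X.fromSpecResidueField x
  have h1 : (1 : Γ(Spec (X.residueField x), i ⁻¹ᵁ V)) = 0 := off_iff.mp h V le_rfl _
  let y : Spec (X.residueField x) := IsLocalRing.closedPoint (X.residueField x)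
  have hy : y ∈ i ⁻¹ᵁ V := by
    change i.base y ∈ V
    rw [X.fromSpecResidueField_apply]
    exact hx
  have h2 := congrArg ((Spec (X.residueField x)).presheaf.germ _ y hy) h1
  rw [map_one, map_zero] at h2
  exact one_ne_zero h2

lemma isZero_of_mono_sky (x : X) {V : X.Opens} (hx : x ∈ V) {N : QCohCat.QCoh X} (n : N ⟶ sky x) [Mono n]
    (h : Off V N) : IsZero N := by
  refine isZero_of_off (off_iff.mpr fun W _ s => ?_)
  apply (QC.mono_iff_app_injective n.hom).mp (inferInstanceAs (Mono ((QCohCat.isQCoh X).ι.map n))) W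
  rw [map_zero]
  apply sky_res_injective x (inf_le_left : W ⊓ V ≤ W) (fun hW => ⟨hW, hx⟩)
  rw [QC.app_res, off_iff.mp h _ inf_le_right (res N.obj inf_le_left s), map_zero, map_zero]

end Skyscraper

/-- A quasi-compact open is the complement of the support of a finitely presented module. -/
theorem exists_fp_supp [CompactSpace X] [QuasiSeparatedSpace X] (U : X.Opens) (hU : IsCompact (U : Set X)) :
    ∃ M : QCohCat.QCoh X, CohB1.IsFP M.obj ∧ CohB1.support M.obj = (U : Set X)ᶜ := by
  classical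
  let Z : TopologicalSpace.Closeds X := ⟨(U : Set X)ᶜ, U.2.isClosed_compl⟩
  let I := Scheme.IdealSheafData.vanishingIdeal Z
  have hrange : Set.range I.subschemeι.base = (U : Set X)ᶜ := by
    rw [I.range_subschemeι, Scheme.IdealSheafData.coe_support_vanishingIdeal]
    rfl
  haveI hIq : (ClSub.idealMod I).IsQuasicoherent := QC.isQCoh_idealMod I
  let A := {V : X.affineOpens // V.1 ≤ U}
  obtain ⟨t, ht⟩ := hU.elim_finite_subcover (fun V : A => (V.1.1 : Set X)) (fun V => V.1.1.2) (fun y hy => by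
    obtain ⟨V, hV, hyV, hVU⟩ := exists_isAffineOpen_mem_and_subset (X := X) (x := y) (U := U) hy
    exact Set.mem_iUnion.mpr ⟨⟨⟨V, hV⟩, hVU⟩, hyV⟩)
  have hone : ∀ V : A, ∃ a : Γ(ClSub.idealMod I, V.1.1), (ClSub.idealModι I).app V.1.1 a = (1 : Γ(X, V.1.1)) :=
    fun V => (QC.mem_range_idealModι I V.1.1 1).mpr (by
      have : I.subschemeι ⁻¹ᵁ V.1.1 = ⊥ := le_bot_iff.mp fun y hy =>
        absurd (V.2 hy) (hrange ▸ Set.mem_range_self y : I.subschemeι.base y ∈ (U : Set X)ᶜ)
      haveI : Subsingleton Γ(I.subscheme, I.subschemeι ⁻¹ᵁ V.1.1) := by rw [this]; infer_instance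
      exact Subsingleton.elim _ _)
  choose a ha using hone
  have hS : ∀ V : A, ∃ S : W7FTH.FGSub (ClSub.idealMod I), a V ∈ S.1.obj V.1.1 := fun V => by
    obtain ⟨S, hS⟩ := FPExt.exists_sub_mem (F := ClSub.idealMod I) V.1.2 {a V}
    exact ⟨S, hS _ (Finset.mem_singleton_self _)⟩
  choose Sof hSof using hS
  obtain ⟨S, hS⟩ := Finset.exists_le (t.image Sof)
  let g := S.1.ι ≫ ClSub.idealModι I
  have hq := (Sub.isCoh_toModules S.2).1
  have hC : Coh.IsQCoh (cokernel g) := QC.isQCoh_cokernel hq (QC.isQCoh_unit X) g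
  refine ⟨⟨cokernel g, hC⟩, FPExt.isFP_cokernel_of_isFT g hq (QC.isQCoh_unit X) (Sub.isCoh_toModules S.2).2
    (SchDense.isFP_unit X), Set.Subset.antisymm ?_ ?_⟩
  · intro x hx hxU
    obtain ⟨V, hV, hxV⟩ := Set.mem_iUnion₂.mp (ht hxU)
    refine (QC.notMem_support_iff x).mpr (fun W hxW s => ?_) hx
    obtain ⟨D, hD, hxD, hDle⟩ := exists_isAffineOpen_mem_and_subset (X := X) (x := x) (U := W ⊓ V.1.1) ⟨hxW, hxV⟩
    refine ⟨D, hDle.trans inf_le_left, hxD, ?_⟩
    obtain ⟨c, hc⟩ := QC.app_surjective_of_epi hD (QC.isQCoh_unit X) hC (cokernel.π g)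
      (res (cokernel g) (hDle.trans inf_le_left) s)
    obtain ⟨b, hb⟩ := (S.1.range_ι_app V.1.1 (a V)).mpr (hS _ (Finset.mem_image_of_mem _ hV) _ (hSof V))
    have h1 : g.app D (res _ (hDle.trans inf_le_right) b) = (1 : Γ(X, D)) := by
      rw [← QC.app_res]
      change res _ _ ((ClSub.idealModι I).app V.1.1 (S.1.ι.app V.1.1 b)) = _
      rw [hb, ha]
      exact map_one (resO X _)
    have h2 : (cokernel.π g).app D c = 0 := by
      have h3 : c = (show Γ(X, D) from c) • g.app D (res _ (hDle.trans inf_le_right) b) := by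
        rw [h1]; exact (mul_one (show Γ(X, D) from c)).symm
      rw [h3, Scheme.Modules.Hom.app_smul]
      refine (congrArg (_ • ·) (ConcreteCategory.congr_hom (congrArg (fun φ => Scheme.Modules.Hom.app φ D)
        (cokernel.condition g)) _)).trans (smul_zero _)
    exact hc.symm.trans h2
  · intro z hz
    by_contra hzC
    obtain ⟨W, hW, hzW, e⟩ := (QC.notMem_support_iff z).mp hzC ⊤ trivial
      ((cokernel.π g).app ⊤ (show Γ(Coh.structureModule X, ⊤) from (1 : Γ(X, ⊤))))
    have hfac : g ≫ ClSub.toSubscheme I = 0 := by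
      refine (Category.assoc _ _ _).trans ?_
      exact (congrArg (S.1.ι ≫ ·) (kernel.condition (ClSub.toSubscheme I))).trans comp_zero
    have hφ : (ClSub.toSubscheme I).app W (show Γ(Coh.structureModule X, W) from (1 : Γ(X, W))) = 0 := by
      rw [QC.app_res] at e
      have h0 := ConcreteCategory.congr_hom (congrArg (fun φ => Scheme.Modules.Hom.app φ W)
        (cokernel.π_desc g (ClSub.toSubscheme I) hfac))
        (res (Coh.structureModule X) hW (show Γ(Coh.structureModule X, ⊤) from (1 : Γ(X, ⊤))))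
      refine Eq.trans (congrArg ((ClSub.toSubscheme I).app W) (map_one (resO X hW)).symm) (h0.symm.trans ?_)
      exact (congrArg ((cokernel.desc g (ClSub.toSubscheme I) hfac).app W) e).trans (map_zero _)
    obtain ⟨y, hy⟩ : z ∈ Set.range I.subschemeι.base := hrange ▸ hz
    have hyW : y ∈ I.subschemeι ⁻¹ᵁ W := by
      change I.subschemeι.base y ∈ W
      rw [hy]; exact hzW
    have h1 : (1 : Γ(I.subscheme, I.subschemeι ⁻¹ᵁ W)) = 0 := (map_one (I.subschemeι.app W).hom).symm.trans hφ
    have h2 := congrArg (I.subscheme.presheaf.germ _ y hyW) h1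
    rw [map_one, map_zero] at h2
    exact one_ne_zero h2

section Pairs

variable (F : QCohCat.QCoh X ≌ QCohCat.QCoh Y)

/-- The opens correspond. -/
def IsPair (U : X.Opens) (V : Y.Opens) : Prop := ∀ T, Off U T ↔ Off V (F.functor.obj T)

variable {F}

lemma IsPair.symm {U : X.Opens} {V : Y.Opens} (h : IsPair F U V) : IsPair F.symm V U := fun T =>
  ⟨fun hT => (h _).mpr (hT.of_iso (F.counitIso.app T).symm),
    fun hT => ((h _).mp hT).of_iso (F.counitIso.app T)⟩

lemma IsPair.cover [QuasiSeparatedSpace Y] {U : X.Opens} {V : Y.Opens} (h : IsPair F U V) {ι : Type*}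
    {U' : ι → X.Opens} {V' : ι → Y.Opens} (h' : ∀ i, IsPair F (U' i) (V' i)) (hU : U ≤ iSup U') :
    V ≤ iSup V' := by
  intro y hy
  by_contra hy'
  refine not_off_sky y hy (((h _).mp ?_).of_iso (F.counitIso.app (sky y)))
  intro x hx hxU
  obtain ⟨i, hi⟩ := Opens.mem_iSup.mp (hU hxU)
  have hy'' : y ∉ V' i := fun h => hy' (Opens.mem_iSup.mpr ⟨i, h⟩)
  exact (h' i _).mpr ((off_sky y hy'').of_iso (F.counitIso.app (sky y)).symm) hx hi

lemma IsPair.mono [QuasiSeparatedSpace Y] {U U' : X.Opens} {V V' : Y.Opens} (h : IsPair F U V)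
    (h' : IsPair F U' V') (hU : U ≤ U') : V ≤ V' :=
  (h.cover (fun _ : Unit => h') (hU.trans (le_iSup (fun _ : Unit => U') ()))).trans (iSup_le fun _ => le_rfl)

lemma IsPair.unique [QuasiSeparatedSpace Y] {U : X.Opens} {V V' : Y.Opens} (h : IsPair F U V)
    (h' : IsPair F U V') : V = V' :=
  le_antisymm (h.mono h' le_rfl) (h'.mono h le_rfl)

variable [CompactSpace X] [QuasiSeparatedSpace X] [CompactSpace Y] [QuasiSeparatedSpace Y]

lemma isLoc_off_functor (F : QCohCat.QCoh X ≌ QCohCat.QCoh Y) (V : Y.Opens) :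
    IsLoc fun T => Off V (F.functor.obj T) := by
  haveI : F.functor.Additive := Functor.additive_of_preserves_binary_products _
  refine ⟨fun S hS => ?_, fun ι M hM => ?_⟩
  · have h := ClSubLib.support_shortExact _
      ((hS.map_of_exact F.functor).map_of_exact (QCohCat.isQCoh Y).ι)
    exact ⟨fun h2 => ⟨fun x hx => h2 (h.ge (Or.inl hx)), fun x hx => h2 (h.ge (Or.inr hx))⟩,
      fun ⟨h1, h3⟩ x hx => (h.le hx).elim (fun h' => h1 h') fun h' => h3 h'⟩
  · refine Off.of_iso (PreservesCoproduct.iso F.functor M).symm ?_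
    rw [← isZero_restrict_iff]
    let L := (QCohCat.isQCoh Y).ι ⋙ Scheme.Modules.restrictFunctor V.ι
    haveI : PreservesColimitsOfSize.{u, u} (Scheme.Modules.restrictFunctor V.ι) :=
      (Scheme.Modules.restrictAdjunction V.ι).leftAdjoint_preservesColimits
    refine IsZero.of_iso ?_ (PreservesCoproduct.iso L fun i => F.functor.obj (M i))
    rw [IsZero.iff_id_eq_zero]
    exact Sigma.hom_ext _ _ fun i =>
      ((isZero_restrict_iff (F.functor.obj (M i))).mpr (hM i)).eq_of_src _ _

lemma isFP_functor (F : QCohCat.QCoh X ≌ QCohCat.QCoh Y) {M : QCohCat.QCoh X} (hM : CohB1.IsFP M.obj) :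
    CohB1.IsFP (F.functor.obj M).obj := by
  haveI : IsFinitelyPresentable.{u} M := (Groth.Agent.S2214.result X M).mpr hM
  haveI : Fact (Cardinal.aleph0.{u}).IsRegular := Cardinal.fact_isRegular_aleph0
  haveI : IsFinitelyPresentable.{u} (F.functor.obj M) := isCardinalPresentable_of_equivalence M _ F
  exact (Groth.Agent.S2214.result Y _).mp inferInstance

/-- Every quasi-compact open has a partner. -/
theorem exists_pair (F : QCohCat.QCoh X ≌ QCohCat.QCoh Y) (U : X.Opens) (hU : IsCompact (U : Set X)) :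
    ∃ V : Y.Opens, IsPair F U V := by
  obtain ⟨M, hM, hsupp⟩ := exists_fp_supp U hU
  have hFM := isFP_functor F hM
  have hcl := QC.isClosed_support (ModDesc.isFT_of_isFP hFM)
  let V : Y.Opens := ⟨(CohB1.support (F.functor.obj M).obj)ᶜ, hcl.isOpen_compl⟩
  have hVc : (V : Set Y)ᶜ = CohB1.support (F.functor.obj M).obj := compl_compl _
  refine ⟨V, fun T => ⟨fun hT => ?_, fun hT => ?_⟩⟩
  · exact mem_of_supp (isLoc_off_functor F V) M hM
      (show Off V (F.functor.obj M) from hVc.ge) T (hT.trans hsupp.ge)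
  · have h0 : Off U (F.inverse.obj (F.functor.obj M)) :=
      (show Off U M from hsupp.le).of_iso (F.unitIso.app M)
    have := mem_of_supp (isLoc_off_functor F.symm U) (F.functor.obj M) hFM h0
      (F.functor.obj T) (hT.trans hVc.le)
    exact this.of_iso (F.unitIso.app T).symm

/-- The partner of a quasi-compact open is quasi-compact. -/
theorem IsPair.isCompact {U : X.Opens} {V : Y.Opens} (h : IsPair F U V) (hU : IsCompact (U : Set X)) :
    IsCompact (V : Set Y) := by
  classical
  let A := {W : Y.affineOpens // W.1 ≤ V}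
  have hA : ∀ W : A, ∃ U' : X.Opens, IsPair F U' W.1.1 ∧ U' ≤ U := fun W => by
    obtain ⟨U', hU'⟩ := exists_pair F.symm W.1.1 W.1.2.isCompact
    exact ⟨U', hU'.symm, hU'.mono h.symm W.2⟩
  choose U' hU' hU'le using hA
  have hV : V ≤ iSup fun W : A => W.1.1 := fun y hy => by
    obtain ⟨W, hW, hyW, hWV⟩ := exists_isAffineOpen_mem_and_subset (X := Y) (x := y) (U := V) hy
    exact Opens.mem_iSup.mpr ⟨⟨⟨W, hW⟩, hWV⟩, hyW⟩
  obtain ⟨t, ht⟩ := hU.elim_finite_subcover (fun W : A => (U' W : Set X)) (fun W => (U' W).2) (fun x hx => by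
    obtain ⟨W, hW⟩ := Opens.mem_iSup.mp
      ((h.symm.cover (F := F.symm) (U' := fun W : A => W.1.1) (fun W => (hU' W).symm) hV) hx)
    exact Set.mem_iUnion.mpr ⟨W, hW⟩)
  have h1 : V ≤ iSup fun W : t => W.1.1.1 := h.cover (fun W : t => hU' W.1) fun x hx => by
    obtain ⟨W, hW, hxW⟩ := Set.mem_iUnion₂.mp (ht hx)
    exact Opens.mem_iSup.mpr ⟨⟨W, hW⟩, hxW⟩
  have : (V : Set Y) = ⋃ W ∈ t, (W.1.1 : Set Y) := by
    refine Set.Subset.antisymm (fun y hy => ?_) (Set.iUnion₂_subset fun W _ => W.2)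
    obtain ⟨W, hW⟩ := Opens.mem_iSup.mp (h1 hy)
    exact Set.mem_iUnion₂.mpr ⟨W.1, W.2, hW⟩
  rw [this]
  exact t.isCompact_biUnion fun W _ => W.1.2.isCompact

/-- A point of the partners of two opens lies in the partner of an affine open inside both. -/
theorem IsPair.exists_mem_inf {U₁ U₂ : X.Opens} {V₁ V₂ : Y.Opens} (h₁ : IsPair F U₁ V₁)
    (h₂ : IsPair F U₂ V₂) (hU₁ : IsCompact (U₁ : Set X)) {y : Y} (hy₁ : y ∈ V₁) (hy₂ : y ∈ V₂) :
    ∃ (W : X.Opens) (V : Y.Opens), IsAffineOpen W ∧ W ≤ U₁ ⊓ U₂ ∧ IsPair F W V ∧ y ∈ V := by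
  by_contra! H
  haveI : QuasiCompact U₁.ι := FPExt.quasiCompact_ι hU₁
  let T := F.inverse.obj (sky y)
  have hT : Off (U₁ ⊓ U₂) T := fun x hx hxU => by
    obtain ⟨W, hW, hxW, hle⟩ := exists_isAffineOpen_mem_and_subset (X := X) (x := x) (U := U₁ ⊓ U₂) hxU
    obtain ⟨V, hV⟩ := exists_pair F W hW.isCompact
    exact (hV T).mpr ((off_sky y (H W V hW hle hV)).of_iso (F.counitIso.app (sky y)).symm) hx hxW
  have hk : IsZero (kernel (u U₁ T)) := by
    have hoff : Off U₁ (kernel (u U₁ T)) := ((isoOn_iff _).mp (isoOn_u U₁ T)).1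
    haveI : Mono (F.functor.map (kernel.ι (u U₁ T)) ≫ F.counitIso.hom.app (sky y)) := inferInstance
    exact IsZero.of_full_of_faithful_of_isZero F.functor _
      (isZero_of_mono_sky y hy₁ (F.functor.map (kernel.ι (u U₁ T)) ≫ F.counitIso.hom.app (sky y))
        ((h₁ _).mp hoff))
  haveI := Preadditive.mono_of_isZero_kernel (u U₁ T) hk
  refine not_off_sky y hy₂ (((h₂ T).mp ?_).of_iso (F.counitIso.app (sky y)))
  rw [off_iff]
  intro W hW s
  apply (QC.mono_iff_app_injective (u U₁ T).hom).mp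
    (inferInstanceAs (Mono ((QCohCat.isQCoh X).ι.map (u U₁ T)))) W
  rw [map_zero]
  change res T.obj (image_le' U₁ W le_rfl) s = 0
  exact off_iff.mp hT _ ((image_le_inf U₁ W).trans (inf_le_inf_left _ hW)) _

end Pairs

end Groth.Agent.GRLib
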