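import Groth.Agent.GRLib.Pair

/-!
An equivalence of quasi-coherent categories induces isomorphisms of the rings of functions on
corresponding opens.
-/

set_option autoImplicit false
set_option linter.style.haveILetI false
set_option linter.unusedVariables false
set_option linter.unusedSectionVars false
set_option backward.isDefEq.respectTransparency false
set_option backward.isDefEq.respectTransparency.types false
set_option maxHeartbeats 400000

universe u

open CategoryTheory CategoryTheory.Limits AlgebraicGeometry TopologicalSpace Opposite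
open Groth.Agent.QC (res resO)

namespace Groth.Agent.GRLib

variable {X Y : Scheme.{u}}

lemma push_smul (j : Y ⟶ X) [IsOpenImmersion j] (N : X.Modules) (W : X.Opens) (r : Γ(X, W))
    (s : Γ((Scheme.Modules.pushforward j).obj (N.restrict j), W)) :
    (show Γ(N, j ''ᵁ (j ⁻¹ᵁ W)) from r • s) =
      resO X (show j ''ᵁ (j ⁻¹ᵁ W) ≤ W from by rintro _ ⟨y, hy, rfl⟩; exact hy) r •
        (show Γ(N, j ''ᵁ (j ⁻¹ᵁ W)) from s) :=
  congrArg (fun c : Γ(X, j ''ᵁ (j ⁻¹ᵁ W)) => c • (show Γ(N, j ''ᵁ (j ⁻¹ᵁ W)) from s))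
    (ConcreteCategory.congr_hom (j.app_appIso_inv W) r)

section Sigma

variable {U : X.Opens} [QuasiCompact U.ι]

/-- Multiplication by a function on `U`, on the restriction to `U`. -/
noncomputable def scalU (T : X.Modules) (a : Γ(X, U)) : T.restrict U.ι ⟶ T.restrict U.ι :=
  ⟨PresheafOfModules.homMk
      { app := fun W => AddCommGrpCat.ofHom
          (DistribSMul.toAddMonoidHom Γ(T, U.ι ''ᵁ W.unop) (resO X (U.ι_image_le W.unop) a))
        naturality := fun W W' i => by
          ext s
          change resO X (U.ι_image_le W'.unop) a •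
              res T (U.ι.image_mono i.unop.le) (show Γ(T, U.ι ''ᵁ W.unop) from s) =
            res T (U.ι.image_mono i.unop.le)
              (resO X (U.ι_image_le W.unop) a • (show Γ(T, U.ι ''ᵁ W.unop) from s))
          rw [QC.res_smul, QC.resO_resO] }
      fun W r s => smul_comm (resO X (U.ι_image_le W.unop) a)
        ((U.ι.appIso W.unop).inv r) (show Γ(T, U.ι ''ᵁ W.unop) from s)⟩

/-- Multiplication by a function on `U`, on the extension from `U`. -/
noncomputable def sigma (T : QCohCat.QCoh X) (a : Γ(X, U)) : G U T ⟶ G U T :=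
  ObjectProperty.homMk ((Scheme.Modules.pushforward U.ι).map (scalU T.obj a))

/-- The extension as a functor. -/
noncomputable def GMap {T T' : QCohCat.QCoh X} (m : T ⟶ T') : G U T ⟶ G U T' :=
  ObjectProperty.homMk ((Scheme.Modules.pushforward U.ι).map ((Scheme.Modules.restrictFunctor U.ι).map m.hom))

lemma u_GMap {T T' : QCohCat.QCoh X} (m : T ⟶ T') : u U T ≫ GMap m = m ≫ u U T' :=
  ObjectProperty.hom_ext _ ((Scheme.Modules.restrictAdjunction U.ι).unit.naturality m.hom).symm

lemma sigma_GMap {T T' : QCohCat.QCoh X} (m : T ⟶ T') (a : Γ(X, U)) :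
    sigma T a ≫ GMap m = GMap m ≫ sigma T' a := by
  apply ObjectProperty.hom_ext
  apply Scheme.Modules.hom_ext
  intro W
  ext s
  exact Scheme.Modules.Hom.app_smul m.hom _ (show Γ(T.obj, U.ι ''ᵁ (U.ι ⁻¹ᵁ W)) from s)

lemma u_sigma_app (T : QCohCat.QCoh X) (a : Γ(X, U)) {W : X.Opens} (hW : W ≤ U) (s : Γ(T.obj, W)) :
    (u U T ≫ sigma T a).hom.app W s = resO X hW a • (u U T).hom.app W s := by
  refine Eq.trans ?_ (push_smul U.ι T.obj W (resO X hW a) _).symm
  rw [QC.resO_resO]
  rfl

lemma app_smul_u (T : QCohCat.QCoh X) (a : Γ(X, U)) {W : X.Opens} (hW : W ≤ U) (s : Γ(T.obj, W)) :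
    (u U T ≫ sigma T a).hom.app W s = (u U T).hom.app W (resO X hW a • s) := by
  rw [u_sigma_app T a hW, Scheme.Modules.Hom.app_smul]

end Sigma

variable (F : QCohCat.QCoh X ≌ QCohCat.QCoh Y)

lemma IsoOn.map {U : X.Opens} {V : Y.Opens} (h : IsPair F U V) {A B : QCohCat.QCoh X} {f : A ⟶ B}
    (hf : IsoOn U f.hom) : IsoOn V (F.functor.map f).hom := by
  rw [isoOn_iff] at hf ⊢
  haveI : F.functor.Additive := Functor.additive_of_preserves_binary_products _
  exact ⟨((h _).mp hf.1).of_iso (PreservesKernel.iso F.functor f),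
    ((h _).mp hf.2).of_iso (PreservesCokernel.iso F.functor f)⟩

lemma IsoOn.mono {U U' : X.Opens} {A B : X.Modules} {f : A ⟶ B} (h : IsoOn U f) (hU : U' ≤ U) :
    IsoOn U' f := fun W hW => h W (hW.trans hU)

/-- The functions `a` on `U` and `b` on `V` act compatibly. -/
def Rel (U : X.Opens) (V : Y.Opens) (a : Γ(X, U)) (b : Γ(Y, V)) : Prop :=
  ∀ ⦃T T' : QCohCat.QCoh X⦄ (f g : T ⟶ T'),
    (∀ (W : X.Opens) (hW : W ≤ U) (s : Γ(T.obj, W)), f.hom.app W s = resO X hW a • g.hom.app W s) →
    ∀ (W : Y.Opens) (hW : W ≤ V) (s : Γ((F.functor.obj T).obj, W)),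
      (F.functor.map f).hom.app W s = resO Y hW b • (F.functor.map g).hom.app W s

/-- The structure sheaf. -/
noncomputable def O (X : Scheme.{u}) : QCohCat.QCoh X := ⟨Coh.structureModule X, QC.isQCoh_unit X⟩

/-- `1` as a section of the structure module. -/
noncomputable def one (X : Scheme.{u}) (W : X.Opens) : Γ((O X).obj, W) := (1 : Γ(X, W))

lemma res_one {V W : X.Opens} (h : V ≤ W) : res (O X).obj h (one X W) = one X V :=
  map_one (resO X h)

lemma smul_one' {W : X.Opens} (t : Γ(X, W)) : t • one X W = (show Γ((O X).obj, W) from t) :=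
  mul_one t

lemma app_one_smul {M : X.Modules} (φ : (O X).obj ⟶ M) {W : X.Opens} (t : Γ(X, W)) :
    φ.app W (show Γ((O X).obj, W) from t) = t • φ.app W (one X W) :=
  (congrArg (φ.app W) (smul_one' t).symm).trans (Scheme.Modules.Hom.app_smul φ _ _)

/-- The object corresponding to the structure sheaf of the target. -/
noncomputable abbrev K : QCohCat.QCoh X := F.inverse.obj (O Y)

/-- The section of `F K` corresponding to `1`. -/
noncomputable def e₁ (V : Y.Opens) : Γ((F.functor.obj (K F)).obj, V) :=
  (F.counitIso.inv.app (O Y)).hom.app V (one Y V)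

lemma counit_e₁ (V : Y.Opens) : (F.counitIso.hom.app (O Y)).hom.app V (e₁ F V) = one Y V :=
  ConcreteCategory.congr_hom (congrArg (fun φ => Scheme.Modules.Hom.app φ V)
    (congrArg InducedCategory.Hom.hom (F.counitIso.inv_hom_id_app (O Y)))) (one Y V)

lemma res_e₁ {V W : Y.Opens} (h : W ≤ V) : res (F.functor.obj (K F)).obj h (e₁ F V) = e₁ F W := by
  exact (QC.app_res (F.counitIso.inv.app (O Y)).hom h (one Y V)).trans (congrArg _ (res_one h))

variable [CompactSpace X] [QuasiSeparatedSpace X] [CompactSpace Y] [QuasiSeparatedSpace Y]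
variable {U : X.Opens} {V : Y.Opens}

lemma Rel.unique (hP : IsPair F U V) [QuasiCompact U.ι] {a : Γ(X, U)} {b b' : Γ(Y, V)} (h : Rel F U V a b)
    (h' : Rel F U V a b') : b = b' := by
  have e := (h (u U (K F) ≫ sigma (K F) a) (u U (K F)) (fun W hW s => u_sigma_app _ a hW s) V le_rfl
    (e₁ F V)).symm.trans
    (h' (u U (K F) ≫ sigma (K F) a) (u U (K F)) (fun W hW s => u_sigma_app _ a hW s) V le_rfl (e₁ F V))
  rw [QC.resO_self, QC.resO_self, ← Scheme.Modules.Hom.app_smul, ← Scheme.Modules.Hom.app_smul] at e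
  have e' := congrArg ((F.counitIso.hom.app (O Y)).hom.app V)
    ((IsoOn.map F hP (isoOn_u U (K F)) V le_rfl).1 e)
  rw [Scheme.Modules.Hom.app_smul, Scheme.Modules.Hom.app_smul, counit_e₁, smul_one', smul_one'] at e'
  exact e'

/-- Every function on `U` acts as a function on `V`. -/
theorem exists_rel (hP : IsPair F U V) [QuasiCompact U.ι] (a : Γ(X, U)) : ∃ b, Rel F U V a b := by
  let w : ∀ T, F.functor.obj T ⟶ F.functor.obj (G U T) := fun T => F.functor.map (u U T ≫ sigma T a)
  let v : ∀ T, F.functor.obj T ⟶ F.functor.obj (G U T) := fun T => F.functor.map (u U T)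
  have hv : ∀ T, IsoOn V (v T).hom := fun T => IsoOn.map F hP (isoOn_u U T)
  obtain ⟨s', hs'⟩ := (hv (K F) V le_rfl).2 ((w (K F)).hom.app V (e₁ F V))
  let b : Γ(Y, V) := (F.counitIso.hom.app (O Y)).hom.app V s'
  have hb : s' = b • e₁ F V := by
    apply (bijective_app_of_isIso ((QCohCat.isQCoh Y).ι.map (F.counitIso.hom.app (O Y))) V).1
    change (F.counitIso.hom.app (O Y)).hom.app V s' = (F.counitIso.hom.app (O Y)).hom.app V (b • e₁ F V)
    rw [Scheme.Modules.Hom.app_smul, counit_e₁, smul_one']
  refine ⟨b, ?_⟩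
  have hnat : ∀ {T T' : QCohCat.QCoh X} (m : T ⟶ T'),
      v T ≫ F.functor.map (GMap m) = F.functor.map m ≫ v T' ∧
      w T ≫ F.functor.map (GMap m) = F.functor.map m ≫ w T' := fun {T T'} m => by
    constructor
    · rw [← F.functor.map_comp, ← F.functor.map_comp, u_GMap]
    · rw [← F.functor.map_comp, ← F.functor.map_comp, Category.assoc, sigma_GMap, ← Category.assoc, u_GMap,
        Category.assoc]
  have claim : ∀ (T : QCohCat.QCoh X) (W : Y.Opens) (hW : W ≤ V) (s : Γ((F.functor.obj T).obj, W)),
      (w T).hom.app W s = resO Y hW b • (v T).hom.app W s := by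
    suffices aff : ∀ (T : QCohCat.QCoh X) (W : Y.Opens), IsAffineOpen W → ∀ (hW : W ≤ V)
        (s : Γ((F.functor.obj T).obj, W)), (w T).hom.app W s = resO Y hW b • (v T).hom.app W s by
      intro T W hW s
      refine QC.section_eq_of_locally fun y hy => ?_
      obtain ⟨W', hW', hyW', hle⟩ := exists_isAffineOpen_mem_and_subset (X := Y) (x := y) (U := W) hy
      refine ⟨W', hle, hyW', ?_⟩
      rw [QC.res_smul, QC.app_res, QC.app_res, QC.resO_resO]
      exact aff T W' hW' (hle.trans hW) _
    intro T W hWaff hW s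
    haveI : QuasiCompact W.ι := FPExt.quasiCompact_ι hWaff.isCompact
    let H := F.functor.obj T
    let T' := F.inverse.obj (G W H)
    let c := F.counitIso.inv.app (G W H)
    let m : T ⟶ T' := F.functor.preimage (u W H ≫ c)
    let t : Γ((G W H).obj, ⊤) := res H.obj (W.ι_image_le (W.ι ⁻¹ᵁ ⊤)) s
    have ht : res (G W H).obj (le_top : W ≤ ⊤) t = (u W H).hom.app W s :=
      QC.res_res H.obj (W.ι.image_mono (W.ι.preimage_mono le_top)) (W.ι_image_le (W.ι ⁻¹ᵁ ⊤)) s
    let φ : O Y ⟶ G W H := ObjectProperty.homMk (CohQC.secHom t)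
    let n : K F ⟶ T' := F.functor.preimage (F.counitIso.hom.app (O Y) ≫ φ ≫ c)
    have hmn : (F.functor.map m).hom.app W s = (F.functor.map n).hom.app W (e₁ F W) := by
      simp only [m, n, Functor.map_preimage]
      change c.hom.app W ((u W H).hom.app W s) =
        c.hom.app W (φ.hom.app W ((F.counitIso.hom.app (O Y)).hom.app W (e₁ F W)))
      rw [counit_e₁, ← ht]
      exact congrArg _ (CohQC.secHom_app_one t W).symm
    have happ : ∀ {A B C : QCohCat.QCoh Y} {p : A ⟶ B} {q : B ⟶ C} {r : A ⟶ C}, p ≫ q = r →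
        ∀ z, q.hom.app W (p.hom.app W z) = r.hom.app W z := fun h z =>
      ConcreteCategory.congr_hom (congrArg (fun φ => Scheme.Modules.Hom.app φ W)
        (congrArg InducedCategory.Hom.hom h)) z
    have hm : IsoOn W (F.functor.map m).hom := by
      simp only [m, Functor.map_preimage]
      intro W' hW'
      exact (bijective_app_of_isIso ((QCohCat.isQCoh Y).ι.map c) W').comp (isoOn_u W H W' hW')
    have hinj : Function.Injective ((F.functor.map (GMap (U := U) m)).hom.app W) := by
      intro z z' hz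
      obtain ⟨x, rfl⟩ := (hv T W hW).2 z
      obtain ⟨x', rfl⟩ := (hv T W hW).2 z'
      rw [happ (hnat m).1, happ (hnat m).1] at hz
      rw [(hm W le_rfl).1 ((hv T' W hW).1 hz)]
    apply hinj
    rw [Scheme.Modules.Hom.app_smul, happ (hnat m).2, happ (hnat m).1]
    change (w T').hom.app W ((F.functor.map m).hom.app W s) =
      resO Y hW b • (v T').hom.app W ((F.functor.map m).hom.app W s)
    rw [hmn]
    have hK : (w (K F)).hom.app W (e₁ F W) = resO Y hW b • (v (K F)).hom.app W (e₁ F W) := by
      rw [← res_e₁ F hW, ← QC.app_res, ← QC.app_res, ← hs', hb, Scheme.Modules.Hom.app_smul, QC.res_smul]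
    have := congrArg ((F.functor.map (GMap (U := U) n)).hom.app W) hK
    rw [Scheme.Modules.Hom.app_smul, happ (hnat n).2, happ (hnat n).1] at this
    exact this
  intro T T' f g hfg W hW s
  have h1 : f ≫ u U T' = g ≫ u U T' ≫ sigma T' a := by
    refine G_hom_ext fun W' hW' s' => ?_
    change (u U T').hom.app W' (f.hom.app W' s') = (u U T' ≫ sigma T' a).hom.app W' (g.hom.app W' s')
    rw [app_smul_u T' a hW', hfg W' hW']
  have h2 := congrArg (fun φ => (F.functor.map φ).hom.app W s) h1
  simp only [Functor.map_comp] at h2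
  apply (hv T' W hW).1
  rw [Scheme.Modules.Hom.app_smul]
  refine Eq.trans h2 ?_
  have := claim T' W hW ((F.functor.map g).hom.app W s)
  simp only [w, Functor.map_comp] at this
  exact this

section Ring

variable (hP : IsPair F U V) [QuasiCompact U.ι]

/-- The function on `V` attached to a function on `U`. -/
noncomputable def thetaFun (a : Γ(X, U)) : Γ(Y, V) := (exists_rel F hP a).choose

lemma thetaFun_spec (a : Γ(X, U)) : Rel F U V a (thetaFun F hP a) := (exists_rel F hP a).choose_spec

lemma thetaFun_eq {a : Γ(X, U)} {b : Γ(Y, V)} (h : Rel F U V a b) : thetaFun F hP a = b :=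
  Rel.unique F hP (thetaFun_spec F hP a) h

lemma thetaFun_mul (a a' : Γ(X, U)) : thetaFun F hP (a * a') = thetaFun F hP a * thetaFun F hP a' := by
  let T := K F
  have key := thetaFun_spec F hP (a * a') (u U T ≫ sigma T (a * a')) (u U T)
    (fun W hW s => u_sigma_app _ _ hW s)
  have k1 := thetaFun_spec F hP a (u U T ≫ sigma T (a * a')) (u U T ≫ sigma T a')
    (fun W hW s => by rw [u_sigma_app _ _ hW, u_sigma_app _ _ hW, map_mul, mul_smul])
  have k2 := thetaFun_spec F hP a' (u U T ≫ sigma T a') (u U T) (fun W hW s => u_sigma_app _ _ hW s)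
  have e := key V le_rfl (e₁ F V)
  rw [k1 V le_rfl, k2 V le_rfl, QC.resO_self, QC.resO_self, QC.resO_self, smul_smul,
    ← Scheme.Modules.Hom.app_smul, ← Scheme.Modules.Hom.app_smul] at e
  have e' := congrArg ((F.counitIso.hom.app (O Y)).hom.app V)
    ((IsoOn.map F hP (isoOn_u U T) V le_rfl).1 e)
  rw [Scheme.Modules.Hom.app_smul, Scheme.Modules.Hom.app_smul, counit_e₁, smul_one', smul_one'] at e'
  exact e'.symm

lemma sub_hom_app {T T' : QCohCat.QCoh X} (f g : T ⟶ T') (W : X.Opens) (s : Γ(T.obj, W)) :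
    (f - g).hom.app W s = f.hom.app W s - g.hom.app W s := rfl

lemma thetaFun_one : thetaFun F hP 1 = 1 := by
  refine thetaFun_eq F hP fun T T' f g h W hW s => ?_
  haveI : F.functor.Additive := Functor.additive_of_preserves_binary_products _
  have hz : Off U (Abelian.image (f - g)) := (off_image_iff _).mpr fun W hW s => by
    rw [sub_hom_app, h W hW s, map_one, one_smul, sub_self]
  have h0 : Off V (Abelian.image (F.functor.map (f - g))) :=
    ((hP _).mp hz).of_iso (Abelian.PreservesImage.iso F.functor (f - g))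
  have h1 := (off_image_iff _).mp h0 W hW s
  rw [F.functor.map_sub] at h1
  rw [map_one, one_smul]
  exact sub_eq_zero.mp h1

lemma thetaFun_zero : thetaFun F hP 0 = 0 := by
  refine thetaFun_eq F hP fun T T' f g h W hW s => ?_
  haveI : F.functor.Additive := Functor.additive_of_preserves_binary_products _
  have hz : Off U (Abelian.image f) := (off_image_iff _).mpr fun W hW s =>
    (h W hW s).trans (by rw [map_zero, zero_smul])
  have h0 : Off V (Abelian.image (F.functor.map f)) :=
    ((hP _).mp hz).of_iso (Abelian.PreservesImage.iso F.functor f)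
  rw [map_zero, zero_smul]
  exact (off_image_iff _).mp h0 W hW s

lemma add_hom_app {T T' : QCohCat.QCoh X} (f g : T ⟶ T') (W : X.Opens) (s : Γ(T.obj, W)) :
    (f + g).hom.app W s = f.hom.app W s + g.hom.app W s := rfl

lemma comp_hom_app {T T' T'' : QCohCat.QCoh X} (f : T ⟶ T') (g : T' ⟶ T'') (W : X.Opens) (s : Γ(T.obj, W)) :
    (f ≫ g).hom.app W s = g.hom.app W (f.hom.app W s) := rfl

lemma thetaFun_add (a a' : Γ(X, U)) : thetaFun F hP (a + a') = thetaFun F hP a + thetaFun F hP a' := by
  refine thetaFun_eq F hP fun T T' f g h W hW s => ?_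
  haveI : F.functor.Additive := Functor.additive_of_preserves_binary_products _
  have h2 : (f ≫ u U T') = g ≫ u U T' ≫ sigma T' a + g ≫ u U T' ≫ sigma T' a' := by
    refine G_hom_ext fun W hW s => ?_
    rw [add_hom_app, comp_hom_app f (u U T'), comp_hom_app g (u U T' ≫ sigma T' a),
      comp_hom_app g (u U T' ≫ sigma T' a'), app_smul_u T' a hW, app_smul_u T' a' hW,
      ← map_add, ← add_smul, ← map_add, h W hW]
  apply (IsoOn.map F hP (isoOn_u U T') W hW).1
  have h4 : (F.functor.map (f ≫ u U T')).hom.app W s =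
      (F.functor.map (g ≫ u U T' ≫ sigma T' a)).hom.app W s +
        (F.functor.map (g ≫ u U T' ≫ sigma T' a')).hom.app W s := by
    rw [h2, F.functor.map_add, add_hom_app]
  have k : ∀ c : Γ(X, U), (F.functor.map (g ≫ u U T' ≫ sigma T' c)).hom.app W s =
      resO Y hW (thetaFun F hP c) • (F.functor.map (g ≫ u U T')).hom.app W s := fun c =>
    thetaFun_spec F hP c (g ≫ u U T' ≫ sigma T' c) (g ≫ u U T')
      (fun W hW s => by
        rw [comp_hom_app g (u U T' ≫ sigma T' c), comp_hom_app g (u U T'), u_sigma_app T' c hW]) W hW s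
  rw [k a, k a', ← add_smul, ← map_add, F.functor.map_comp, F.functor.map_comp,
    comp_hom_app (F.functor.map f) (F.functor.map (u U T')),
    comp_hom_app (F.functor.map g) (F.functor.map (u U T'))] at h4
  rw [Scheme.Modules.Hom.app_smul]
  exact h4

/-- The ring homomorphism attached to corresponding opens. -/
noncomputable def theta : Γ(X, U) →+* Γ(Y, V) where
  toFun := thetaFun F hP
  map_one' := thetaFun_one F hP
  map_mul' := thetaFun_mul F hP
  map_zero' := thetaFun_zero F hP
  map_add' := thetaFun_add F hP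

lemma theta_spec (a : Γ(X, U)) : Rel F U V a (theta F hP a) := thetaFun_spec F hP a

end Ring

/-- Compatibility with restriction. -/
theorem theta_res (hP : IsPair F U V) [QuasiCompact U.ι] {U' : X.Opens} {V' : Y.Opens}
    (hP' : IsPair F U' V') [QuasiCompact U'.ι] (hU : U' ≤ U) (hV : V' ≤ V) (a : Γ(X, U)) :
    theta F hP' (resO X hU a) = resO Y hV (theta F hP a) := by
  let T := K F
  have k1 := theta_spec F hP a (u U T ≫ sigma T a) (u U T) (fun W hW s => u_sigma_app _ _ hW s)
    V' hV (e₁ F V')
  have k2 := theta_spec F hP' (resO X hU a) (u U T ≫ sigma T a) (u U T) (fun W hW s => by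
    rw [QC.resO_resO]; exact u_sigma_app _ _ _ s) V' le_rfl (e₁ F V')
  rw [QC.resO_self] at k2
  have e := k2.symm.trans k1
  rw [← Scheme.Modules.Hom.app_smul, ← Scheme.Modules.Hom.app_smul] at e
  have e' := congrArg ((F.counitIso.hom.app (O Y)).hom.app V')
    ((IsoOn.map F hP (isoOn_u U T) V' hV).1 e)
  rw [Scheme.Modules.Hom.app_smul, Scheme.Modules.Hom.app_smul, counit_e₁, smul_one', smul_one'] at e'
  exact e'

/-- The homomorphisms in the two directions are inverse. -/
theorem theta_theta (hP : IsPair F U V) [QuasiCompact U.ι] [QuasiCompact V.ι] (a : Γ(X, U)) :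
    theta F.symm hP.symm (theta F hP a) = a := by
  let T := O X
  let f := u U T ≫ sigma T a
  let g := u U T
  have k1 : ∀ (W : Y.Opens) (hW : W ≤ V) (s : Γ((F.functor.obj T).obj, W)),
      (F.functor.map f).hom.app W s = resO Y hW (theta F hP a) • (F.functor.map g).hom.app W s :=
    theta_spec F hP a f g (fun W hW s => u_sigma_app _ _ hW s)
  have k2 := theta_spec F.symm hP.symm (theta F hP a) (F.functor.map f) (F.functor.map g) k1 U le_rfl
    ((F.unit.app T).hom.app U (one X U))
  have hn : ∀ φ : T ⟶ G U T, (F.symm.functor.map (F.functor.map φ)).hom.app U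
      ((F.unit.app T).hom.app U (one X U)) = (F.unit.app (G U T)).hom.app U (φ.hom.app U (one X U)) := fun φ =>
    (ConcreteCategory.congr_hom (congrArg (fun ψ => Scheme.Modules.Hom.app ψ U)
      (congrArg InducedCategory.Hom.hom (F.unit.naturality φ))) (one X U)).symm
  rw [hn, hn, QC.resO_self, ← Scheme.Modules.Hom.app_smul] at k2
  have e := (bijective_app_of_isIso ((QCohCat.isQCoh X).ι.map (F.unit.app (G U T))) U).1 k2
  simp only [f] at e
  rw [app_smul_u T a le_rfl, QC.resO_self, ← Scheme.Modules.Hom.app_smul] at e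
  have e' := (isoOn_u U T U le_rfl).1 e
  rw [smul_one', smul_one'] at e'
  exact e'.symm

end Groth.Agent.GRLib
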