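import Groth.Agent.GRLib.Iso
import Groth.Agent.HTorBC.PairSec
import Groth.Agent.QCGen.Basic
import Mathlib.RingTheory.Finiteness.Projective

/-!
An equivalence of quasi-coherent categories is a twisted pullback.
-/

set_option autoImplicit false
set_option linter.style.haveILetI false
set_option linter.unusedVariables false
set_option linter.unusedSectionVars false
set_option backward.isDefEq.respectTransparency false
set_option backward.isDefEq.respectTransparency.types false
set_option maxHeartbeats 400000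

universe u

open CategoryTheory CategoryTheory.Limits AlgebraicGeometry TopologicalSpace Opposite
open Groth.Agent.QC (res resO)
open scoped TensorProduct

namespace Groth.Agent.GRLib

variable {X Y : Scheme.{u}}

lemma G_ext_affine {U : X.Opens} (hU : IsAffineOpen U) [QuasiCompact U.ι] {M N : QCohCat.QCoh X}
    {h h' : M ⟶ G U N} (e : ∀ m : Γ(M.obj, U), h.hom.app U m = h'.hom.app U m) : h = h' :=
  G_hom_ext (app_eq_of_affine hU e)

/-- Modules over the functions on an affine open are sections of quasi-coherent modules. -/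
lemma exists_sections_equiv [QuasiSeparatedSpace X] {U : X.Opens} (hU : IsAffineOpen U) (M : Type u)
    [AddCommGroup M] [Module Γ(X, U) M] :
    ∃ N : QCohCat.QCoh X, Nonempty (M ≃ₗ[Γ(X, U)] Γ(N.obj, U)) := by
  let j := hU.fromSpec
  haveI : QuasiCompact j := inferInstance
  let N₀ := tilde (R := Γ(X, U)) (ModuleCat.of Γ(X, U) M)
  haveI hq : Coh.IsQCoh N₀ := (inferInstance : N₀.IsQuasicoherent)
  refine ⟨⟨(Scheme.Modules.pushforward j).obj N₀, QC.isQCoh_pushforward (hM := hq) j⟩, ⟨?_⟩⟩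
  let e₀ : M ≃ₗ[Γ(X, U)] Γ(N₀, ⊤) := (tilde.isoTop (ModuleCat.of Γ(X, U) M)).toLinearEquiv
  have h : j ⁻¹ᵁ U = ⊤ := hU.fromSpec_preimage_self
  refine LinearEquiv.ofBijective
    { toFun := fun m => (show Γ((Scheme.Modules.pushforward j).obj N₀, U) from
        res N₀ (le_top : j ⁻¹ᵁ U ≤ ⊤) (e₀ m))
      map_add' := fun a b => by
        change res N₀ _ (e₀ (a + b)) = res N₀ _ (e₀ a) + res N₀ _ (e₀ b)
        rw [map_add, map_add]
      map_smul' := fun r a => by
        change res N₀ (le_top : j ⁻¹ᵁ U ≤ ⊤) (e₀ (r • a)) =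
          (j.app U r : Γ(Spec Γ(X, U), j ⁻¹ᵁ U)) • res N₀ (le_top : j ⁻¹ᵁ U ≤ ⊤) (e₀ a)
        rw [LinearEquiv.map_smul, Scheme.Modules.smul_Spec_def, QC.res_smul]
        congr 1
        rw [hU.fromSpec_app_self]
        change resO (Spec Γ(X, U)) (le_top : j ⁻¹ᵁ U ≤ ⊤)
            (resO (Spec Γ(X, U)) (le_top : (⊤ : (Spec Γ(X, U)).Opens) ≤ ⊤) ((Scheme.ΓSpecIso Γ(X, U)).inv r)) = _
        rw [QC.resO_resO]
        rfl }
    ((res_bijective (M := N₀) (le_top : j ⁻¹ᵁ U ≤ ⊤) h.ge).comp e₀.bijective)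

variable [CompactSpace X] [QuasiSeparatedSpace X] [CompactSpace Y] [QuasiSeparatedSpace Y]
variable (F : QCohCat.QCoh X ≌ QCohCat.QCoh Y)

section Affine

variable {U : X.Opens} {V : Y.Opens} (hU : IsAffineOpen U) [QuasiCompact U.ι] (hP : IsPair F U V)

/-- The extension to `G` of a linear map of sections. -/
noncomputable def ext {M N : QCohCat.QCoh X} (g : Γ(M.obj, U) →ₗ[Γ(X, U)] Γ(N.obj, U)) : M ⟶ G U N :=
  (exists_hom_G hU M N g).choose

lemma ext_app {M N : QCohCat.QCoh X} (g : Γ(M.obj, U) →ₗ[Γ(X, U)] Γ(N.obj, U)) (m : Γ(M.obj, U)) :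
    (ext hU g).hom.app U m = (u U N).hom.app U (g m) :=
  (exists_hom_G hU M N g).choose_spec m

/-- The sections of `F T` corresponding to linear maps out of `K`. -/
noncomputable def Phi (T : QCohCat.QCoh X) (h : Γ((K F).obj, U) →ₗ[Γ(X, U)] Γ(T.obj, U)) :
    Γ((F.functor.obj T).obj, V) :=
  ((IsoOn.map F hP (isoOn_u U T) V le_rfl).2 ((F.functor.map (ext hU h)).hom.app V (e₁ F V))).choose

lemma Phi_spec (T : QCohCat.QCoh X) (h : Γ((K F).obj, U) →ₗ[Γ(X, U)] Γ(T.obj, U)) :
    (F.functor.map (u U T)).hom.app V (Phi F hU hP T h) = (F.functor.map (ext hU h)).hom.app V (e₁ F V) :=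
  ((IsoOn.map F hP (isoOn_u U T) V le_rfl).2 _).choose_spec

lemma Phi_eq {T : QCohCat.QCoh X} {h : Γ((K F).obj, U) →ₗ[Γ(X, U)] Γ(T.obj, U)}
    {x : Γ((F.functor.obj T).obj, V)}
    (e : (F.functor.map (u U T)).hom.app V x = (F.functor.map (ext hU h)).hom.app V (e₁ F V)) :
    Phi F hU hP T h = x :=
  (IsoOn.map F hP (isoOn_u U T) V le_rfl).1 ((Phi_spec F hU hP T h).trans e.symm)

lemma Phi_add (T : QCohCat.QCoh X) (h h' : Γ((K F).obj, U) →ₗ[Γ(X, U)] Γ(T.obj, U)) :
    Phi F hU hP T (h + h') = Phi F hU hP T h + Phi F hU hP T h' := by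
  apply Phi_eq
  haveI : F.functor.Additive := Functor.additive_of_preserves_binary_products _
  have e : ext hU (h + h') = ext hU h + ext hU h' := G_ext_affine hU fun m => by
    rw [ext_app, add_hom_app, ext_app, ext_app, LinearMap.add_apply, map_add]
  rw [map_add, Phi_spec, Phi_spec, e, F.functor.map_add, add_hom_app]

lemma Phi_smul (T : QCohCat.QCoh X) (a : Γ(X, U)) (h : Γ((K F).obj, U) →ₗ[Γ(X, U)] Γ(T.obj, U)) :
    Phi F hU hP T (a • h) = theta F hP a • Phi F hU hP T h := by
  apply Phi_eq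
  rw [Scheme.Modules.Hom.app_smul, Phi_spec]
  have e : ext hU (a • h) = ext hU h ≫ sigma T a := G_ext_affine hU fun m => by
    rw [ext_app, comp_hom_app, ext_app, LinearMap.smul_apply, ← comp_hom_app (u U T) (sigma T a),
      app_smul_u T a le_rfl, QC.resO_self]
  have h2 : ∀ (W : X.Opens) (hW : W ≤ U) (s : Γ((K F).obj, W)),
      (ext hU h ≫ sigma T a).hom.app W s = resO X hW a • (ext hU h).hom.app W s := by
    intro W hW s
    obtain ⟨t, ht⟩ := (isoOn_u U T W hW).2 ((ext hU h).hom.app W s)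
    rw [comp_hom_app, ← ht, ← comp_hom_app (u U T) (sigma T a), u_sigma_app T a hW]
  rw [e, theta_spec F hP a _ _ h2 V le_rfl, QC.resO_self]

lemma Phi_map {T T' : QCohCat.QCoh X} (g : Γ(T.obj, U) →ₗ[Γ(X, U)] Γ(T'.obj, U)) (q : G U T ⟶ G U T')
    (hq : ∀ x, q.hom.app U ((u U T).hom.app U x) = (u U T').hom.app U (g x))
    (h : Γ((K F).obj, U) →ₗ[Γ(X, U)] Γ(T.obj, U)) :
    (F.functor.map (u U T')).hom.app V (Phi F hU hP T' (g.comp h)) =
      (F.functor.map q).hom.app V ((F.functor.map (u U T)).hom.app V (Phi F hU hP T h)) := by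
  rw [Phi_spec, Phi_spec, ← comp_hom_app, ← F.functor.map_comp]
  have e : ext hU (g.comp h) = ext hU h ≫ q := G_ext_affine hU fun m => by
    rw [ext_app, comp_hom_app, ext_app, hq]
    rfl
  rw [e]

lemma off_image_of_app_e₁ {B : QCohCat.QCoh Y} (φ : F.functor.obj (K F) ⟶ B)
    (h : φ.hom.app V (e₁ F V) = 0) : Off V (Abelian.image φ) := by
  refine (off_image_iff φ).mpr fun W hW s => ?_
  have hs : s = (show Γ(Y, W) from (F.counitIso.hom.app (O Y)).hom.app W s) • e₁ F W := by
    apply (bijective_app_of_isIso ((QCohCat.isQCoh Y).ι.map (F.counitIso.hom.app (O Y))) W).1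
    change (F.counitIso.hom.app (O Y)).hom.app W s = (F.counitIso.hom.app (O Y)).hom.app W _
    rw [Scheme.Modules.Hom.app_smul, counit_e₁, smul_one']
  rw [hs, Scheme.Modules.Hom.app_smul, ← res_e₁ F hW, ← QC.app_res, h, map_zero, smul_zero]

lemma Phi_injective (T : QCohCat.QCoh X) : Function.Injective (Phi F hU hP T) := by
  intro h h' e
  haveI : F.functor.Additive := Functor.additive_of_preserves_binary_products _
  have h0 : (F.functor.map (ext hU h - ext hU h')).hom.app V (e₁ F V) = 0 := by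
    rw [F.functor.map_sub, sub_hom_app, ← Phi_spec F hU hP, ← Phi_spec F hU hP, e, sub_self]
  have hz : Off U (Abelian.image (ext hU h - ext hU h')) := (hP _).mpr
    ((off_image_of_app_e₁ F (F.functor.map (ext hU h - ext hU h')) h0).of_iso
      (Abelian.PreservesImage.iso F.functor (ext hU h - ext hU h')).symm)
  refine LinearMap.ext fun m => (isoOn_u U T U le_rfl).1 ?_
  have h1 := (off_image_iff _).mp hz U le_rfl m
  rw [sub_hom_app, sub_eq_zero, ext_app, ext_app] at h1
  exact h1

include hU hP in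
lemma isAffine_V : IsAffineOpen V := isAffineOpen_pair F hU hP

lemma Phi_surjective (T : QCohCat.QCoh X) : Function.Surjective (Phi F hU hP T) := by
  intro x
  have hV := isAffine_V F hU hP
  haveI : QuasiCompact V.ι := FPExt.quasiCompact_ι hV.isCompact
  let H := F.functor.obj T
  let H' := G V H
  let t : Γ(H'.obj, ⊤) := res H.obj (V.ι_image_le (V.ι ⁻¹ᵁ ⊤)) x
  have ht : res H'.obj (le_top : V ≤ ⊤) t = (u V H).hom.app V x :=
    QC.res_res H.obj (V.ι.image_mono (V.ι.preimage_mono le_top)) (V.ι_image_le (V.ι ⁻¹ᵁ ⊤)) x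
  let φ : O Y ⟶ H' := ObjectProperty.homMk (CohQC.secHom t)
  let c := F.counitIso.inv.app H'
  let v : T ⟶ F.inverse.obj H' := F.functor.preimage (u V H ≫ c)
  let n : K F ⟶ F.inverse.obj H' := F.functor.preimage (F.counitIso.hom.app (O Y) ≫ φ ≫ c)
  have hv : IsoOn U v.hom := by
    have h1 : IsoOn V (F.functor.map v).hom := by
      simp only [v, Functor.map_preimage]
      intro W hW
      exact (bijective_app_of_isIso ((QCohCat.isQCoh Y).ι.map c) W).comp (isoOn_u V H W hW)
    rw [isoOn_iff] at h1 ⊢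
    haveI : F.functor.Additive := Functor.additive_of_preserves_binary_products _
    exact ⟨(hP _).mpr (h1.1.of_iso (PreservesKernel.iso F.functor v).symm),
      (hP _).mpr (h1.2.of_iso (PreservesCokernel.iso F.functor v).symm)⟩
  let ev : Γ(T.obj, U) ≃ₗ[Γ(X, U)] Γ((F.inverse.obj H').obj, U) :=
    LinearEquiv.ofBijective (QC.appₗ v.hom U) (hv U le_rfl)
  let h : Γ((K F).obj, U) →ₗ[Γ(X, U)] Γ(T.obj, U) := ev.symm.toLinearMap.comp (QC.appₗ n.hom U)
  let w : F.inverse.obj H' ⟶ G U T := ext hU ev.symm.toLinearMap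
  refine ⟨h, Phi_eq F hU hP ?_⟩
  have e1 : ext hU h = n ≫ w := G_ext_affine hU fun m => by
    rw [ext_app, comp_hom_app, ext_app]
    rfl
  have e2 : u U T = v ≫ w := G_ext_affine hU fun m => by
    rw [comp_hom_app, ext_app]
    exact congrArg _ (ev.symm_apply_apply m).symm
  rw [e1, e2, F.functor.map_comp, F.functor.map_comp, comp_hom_app, comp_hom_app]
  congr 1
  simp only [v, n, Functor.map_preimage]
  change c.hom.app V ((u V H).hom.app V x) =
    c.hom.app V (φ.hom.app V ((F.counitIso.hom.app (O Y)).hom.app V (e₁ F V)))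
  rw [counit_e₁]
  congr 1
  exact ht.symm.trans (CohQC.secHom_app_one t V).symm

include hU hP in
/-- The corresponding module is finite projective over each affine open. -/
theorem projective_K : Module.Finite Γ(X, U) Γ((K F).obj, U) ∧ Module.Projective Γ(X, U) Γ((K F).obj, U) := by
  have hFP : CohB1.IsFP (K F).obj := isFP_functor F.symm (show CohB1.IsFP (O Y).obj from SchDense.isFP_unit Y)
  haveI := LocFree.finitePresentation_sections_of_isFP (K F).property hFP hU
  refine ⟨inferInstance, ?_⟩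
  obtain ⟨n, p, hp⟩ := Module.Finite.exists_fin' Γ(X, U) Γ((K F).obj, U)
  obtain ⟨N, ⟨ε⟩⟩ := exists_sections_equiv hU (Fin n → Γ(X, U))
  let g : Γ(N.obj, U) →ₗ[Γ(X, U)] Γ((K F).obj, U) := p.comp ε.symm.toLinearMap
  let uK := u U (K F)
  let uN : Γ(N.obj, U) ≃ₗ[Γ(X, U)] Γ((G U N).obj, U) :=
    LinearEquiv.ofBijective (QC.appₗ (u U N).hom U) (isoOn_u U N U le_rfl)
  let q : G U N ⟶ G U (K F) := ext hU (g.comp uN.symm.toLinearMap)
  have hq : ∀ x, q.hom.app U ((u U N).hom.app U x) = uK.hom.app U (g x) := fun x => by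
    rw [ext_app]
    exact congrArg (fun y => uK.hom.app U (g y)) (uN.symm_apply_apply x)
  have hqs : Function.Surjective (q.hom.app U) := fun y => by
    obtain ⟨k, rfl⟩ := (isoOn_u U (K F) U le_rfl).2 y
    obtain ⟨x, rfl⟩ := hp k
    exact ⟨(u U N).hom.app U (ε x), (hq _).trans (congrArg _ (congrArg p (ε.symm_apply_apply x)))⟩
  have hoff : Off U (cokernel q) := (off_iff_affine hU).mpr fun m => by
    haveI : Epi (cokernel.π q).hom := inferInstanceAs (Epi ((QCohCat.isQCoh X).ι.map (cokernel.π q)))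
    obtain ⟨y, rfl⟩ := QC.app_surjective_of_epi hU (G U (K F)).property (cokernel q).property (cokernel.π q).hom m
    obtain ⟨x, rfl⟩ := hqs y
    rw [← comp_hom_app, cokernel.condition]
    rfl
  haveI : F.functor.Additive := Functor.additive_of_preserves_binary_products _
  have hV := isAffine_V F hU hP
  obtain ⟨y, hy⟩ := surjective_of_off hV (F.functor.map q)
    (((hP _).mp hoff).of_iso (PreservesCokernel.iso F.functor q))
    ((F.functor.map uK).hom.app V (Phi F hU hP (K F) LinearMap.id))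
  obtain ⟨x, rfl⟩ := (IsoOn.map F hP (isoOn_u U N) V le_rfl).2 y
  obtain ⟨h, rfl⟩ := Phi_surjective F hU hP N x
  rw [← Phi_map F hU hP g q hq h] at hy
  have hid := Phi_injective F hU hP (K F) ((IsoOn.map F hP (isoOn_u U (K F)) V le_rfl).1 hy)
  exact Module.Projective.of_split (ε.symm.toLinearMap.comp h) p hid

/-- The pairing on corresponding affine opens. -/
noncomputable def pairAff (T : QCohCat.QCoh X) (s : Γ(T.obj, U)) (l : Γ((F.functor.obj (O X)).obj, V)) :
    Γ((F.functor.obj T).obj, V) :=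
  ((IsoOn.map F hP (isoOn_u U T) V le_rfl).2
    ((F.functor.map (ext hU (M := O X) (N := T) (LinearMap.toSpanSingleton Γ(X, U) Γ(T.obj, U) s))).hom.app V l)).choose

lemma pairAff_spec (T : QCohCat.QCoh X) (s : Γ(T.obj, U)) (l : Γ((F.functor.obj (O X)).obj, V)) :
    (F.functor.map (u U T)).hom.app V (pairAff F hU hP T s l) =
      (F.functor.map (ext hU (M := O X) (N := T) (LinearMap.toSpanSingleton Γ(X, U) Γ(T.obj, U) s))).hom.app V l :=
  ((IsoOn.map F hP (isoOn_u U T) V le_rfl).2 _).choose_spec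

lemma pairAff_eq {T : QCohCat.QCoh X} {s : Γ(T.obj, U)} {l : Γ((F.functor.obj (O X)).obj, V)}
    {x : Γ((F.functor.obj T).obj, V)}
    (e : (F.functor.map (u U T)).hom.app V x =
      (F.functor.map (ext hU (M := O X) (N := T) (LinearMap.toSpanSingleton Γ(X, U) Γ(T.obj, U) s))).hom.app V l) :
    pairAff F hU hP T s l = x :=
  (IsoOn.map F hP (isoOn_u U T) V le_rfl).1 ((pairAff_spec F hU hP T s l).trans e.symm)

lemma pairAff_Phi (T : QCohCat.QCoh X) (s : Γ(T.obj, U))
    (lam : Γ((K F).obj, U) →ₗ[Γ(X, U)] Γ((O X).obj, U)) :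
    pairAff F hU hP T s (Phi F hU hP (O X) lam) =
      Phi F hU hP T ((LinearMap.toSpanSingleton Γ(X, U) Γ(T.obj, U) s).comp lam) := by
  apply pairAff_eq
  let g : Γ((O X).obj, U) →ₗ[Γ(X, U)] Γ(T.obj, U) := LinearMap.toSpanSingleton Γ(X, U) Γ(T.obj, U) s
  let uO : Γ((O X).obj, U) ≃ₗ[Γ(X, U)] Γ((G U (O X)).obj, U) :=
    LinearEquiv.ofBijective (QC.appₗ (u U (O X)).hom U) (isoOn_u U (O X) U le_rfl)
  let q : G U (O X) ⟶ G U T := ext hU (g.comp uO.symm.toLinearMap)
  have hq : ∀ x, q.hom.app U ((u U (O X)).hom.app U x) = (u U T).hom.app U (g x) := fun x => by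
    rw [ext_app]
    exact congrArg (fun y => (u U T).hom.app U (g y)) (uO.symm_apply_apply x)
  have e : u U (O X) ≫ q = ext hU g := G_ext_affine hU fun m => by rw [comp_hom_app, hq, ext_app]
  refine (Phi_map F hU hP g q hq lam).trans ?_
  rw [← comp_hom_app, ← F.functor.map_comp, e]

lemma pairAff_add_left (T : QCohCat.QCoh X) (s s' : Γ(T.obj, U)) (l : Γ((F.functor.obj (O X)).obj, V)) :
    pairAff F hU hP T (s + s') l = pairAff F hU hP T s l + pairAff F hU hP T s' l := by
  obtain ⟨lam, rfl⟩ := Phi_surjective F hU hP (O X) l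
  rw [pairAff_Phi, pairAff_Phi, pairAff_Phi, ← Phi_add]
  congr 1
  refine LinearMap.ext fun x => ?_
  simp only [LinearMap.comp_apply, LinearMap.add_apply, LinearMap.toSpanSingleton_apply]
  exact smul_add _ _ _

lemma pairAff_add_right (T : QCohCat.QCoh X) (s : Γ(T.obj, U)) (l l' : Γ((F.functor.obj (O X)).obj, V)) :
    pairAff F hU hP T s (l + l') = pairAff F hU hP T s l + pairAff F hU hP T s l' := by
  apply pairAff_eq
  rw [map_add, map_add, pairAff_spec, pairAff_spec]

lemma pairAff_smul_left (T : QCohCat.QCoh X) (a : Γ(X, U)) (s : Γ(T.obj, U))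
    (l : Γ((F.functor.obj (O X)).obj, V)) :
    pairAff F hU hP T (a • s) l = theta F hP a • pairAff F hU hP T s l := by
  obtain ⟨lam, rfl⟩ := Phi_surjective F hU hP (O X) l
  rw [pairAff_Phi, pairAff_Phi, ← Phi_smul]
  congr 1
  refine LinearMap.ext fun x => ?_
  simp only [LinearMap.comp_apply, LinearMap.smul_apply, LinearMap.toSpanSingleton_apply]
  exact smul_comm _ _ _

lemma pairAff_smul_right (T : QCohCat.QCoh X) (r : Γ(Y, V)) (s : Γ(T.obj, U))
    (l : Γ((F.functor.obj (O X)).obj, V)) :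
    pairAff F hU hP T s (r • l) = r • pairAff F hU hP T s l := by
  apply pairAff_eq
  rw [Scheme.Modules.Hom.app_smul, Scheme.Modules.Hom.app_smul, pairAff_spec]

lemma pairAff_res (T : QCohCat.QCoh X) {U' : X.Opens} {V' : Y.Opens} (hU' : IsAffineOpen U')
    [QuasiCompact U'.ι] (hP' : IsPair F U' V') (h : U' ≤ U) (hV : V' ≤ V) (s : Γ(T.obj, U))
    (l : Γ((F.functor.obj (O X)).obj, V)) :
    res (F.functor.obj T).obj hV (pairAff F hU hP T s l) =
      pairAff F hU' hP' T (res T.obj h s) (res (F.functor.obj (O X)).obj hV l) := by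
  symm
  apply pairAff_eq
  let r : G U T ⟶ G U' T := ObjectProperty.homMk (resPush U.ι U'.ι (fun W =>
    (image_le_inf U' W).trans ((inf_le_inf_right W h).trans (fun y hy => ⟨⟨y, hy.1⟩, hy.2, rfl⟩))) T.obj)
  have hur : u U T ≫ r = u U' T := G_hom_ext fun W hW x =>
    QC.res_res T.obj _ (image_le' U W le_rfl) x
  have hext : ext hU (M := O X) (N := T) (LinearMap.toSpanSingleton Γ(X, U) Γ(T.obj, U) s) ≫ r =
      ext hU' (M := O X) (N := T) (LinearMap.toSpanSingleton Γ(X, U') Γ(T.obj, U') (res T.obj h s)) := by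
    refine G_ext_affine hU' fun m => ?_
    have h1 : (ext hU (M := O X) (N := T) (LinearMap.toSpanSingleton Γ(X, U) Γ(T.obj, U) s) ≫ r).hom.app U'
        (one X U') = (u U' T).hom.app U' (res T.obj h s) := by
      have h0 : LinearMap.toSpanSingleton Γ(X, U) Γ(T.obj, U) s (one X U) = s := one_smul Γ(X, U) s
      rw [← res_one h, ← QC.app_res, comp_hom_app, ext_app]
      refine (congrArg (fun z => res (G U' T).obj h (r.hom.app U ((u U T).hom.app U z))) h0).trans ?_
      dsimp only
      rw [← comp_hom_app (u U T) r, hur, ← QC.app_res]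
    rw [← smul_one' (show Γ(X, U') from m), Scheme.Modules.Hom.app_smul, h1, ext_app, map_smul,
      Scheme.Modules.Hom.app_smul]
    congr 2
    exact (one_smul Γ(X, U') (res T.obj h s)).symm
  rw [← QC.app_res, ← QC.app_res, ← hur, ← hext, F.functor.map_comp, F.functor.map_comp, comp_hom_app,
    comp_hom_app, pairAff_spec]

lemma pairAff_nat {T T' : QCohCat.QCoh X} (m : T ⟶ T') (s : Γ(T.obj, U))
    (l : Γ((F.functor.obj (O X)).obj, V)) :
    pairAff F hU hP T' (m.hom.app U s) l = (F.functor.map m).hom.app V (pairAff F hU hP T s l) := by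
  apply pairAff_eq
  have hext : ext hU (M := O X) (N := T) (LinearMap.toSpanSingleton Γ(X, U) Γ(T.obj, U) s) ≫ GMap m =
      ext hU (M := O X) (N := T') (LinearMap.toSpanSingleton Γ(X, U) Γ(T'.obj, U) (m.hom.app U s)) :=
    G_ext_affine hU fun a => by
      rw [comp_hom_app, ext_app, ext_app, ← comp_hom_app (u U T) (GMap m), u_GMap, comp_hom_app]
      exact congrArg ((u U T').hom.app U)
        (Scheme.Modules.Hom.app_smul m.hom (show Γ(X, U) from a) s)
  rw [← comp_hom_app, ← F.functor.map_comp, ← u_GMap, ← hext, F.functor.map_comp, F.functor.map_comp,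
    comp_hom_app, comp_hom_app, pairAff_spec]

end Affine

end Groth.Agent.GRLib
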